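import Mathlib
import Groth.Prelude.Def_W4c4lgringredgrpLG

set_option autoImplicit false
universe u v w

namespace Groth.Agent.H7.LG

open MvPolynomial

section Basic
variable {R : Type u} [CommRing R]

/-- The LG property for an arbitrary finite type of variables. -/
theorem representsUnit_of_finite (hR : LGRing.IsLGRing R) {σ : Type} [Finite σ]
    (f : MvPolynomial σ R)
    (h : ∀ (m : Ideal R) [m.IsMaximal], LGRing.RepresentsUnit f (R ⧸ m)) :
    LGRing.RepresentsUnit f R := by
  obtain ⟨n, ⟨e⟩⟩ := Finite.exists_equiv_fin σ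
  have h' : ∀ (m : Ideal R) [m.IsMaximal], LGRing.RepresentsUnit (rename e f) (R ⧸ m) := by
    intro m _
    obtain ⟨s, hs⟩ := h m
    refine ⟨s ∘ e.symm, ?_⟩
    rw [aeval_rename]
    have : (s ∘ e.symm) ∘ e = s := by ext i; simp
    rw [this]
    exact hs
  obtain ⟨s, hs⟩ := hR n (rename e f) h'
  refine ⟨s ∘ e, ?_⟩
  rw [aeval_rename] at hs
  exact hs

/-- The LG property in "lifted" form: if for every maximal ideal `m` some value of `f` over `R` avoids
`m`, then some value of `f` over `R` is a unit. -/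
theorem exists_isUnit_eval (hR : LGRing.IsLGRing R) {σ : Type} [Finite σ]
    (f : MvPolynomial σ R)
    (h : ∀ (m : Ideal R) [m.IsMaximal], ∃ s : σ → R, eval s f ∉ m) :
    ∃ s : σ → R, IsUnit (eval s f) := by
  have := representsUnit_of_finite hR f (fun m _ => by
    obtain ⟨s, hs⟩ := h m
    refine ⟨fun i => Ideal.Quotient.mk m (s i), ?_⟩
    have h1 : aeval (fun i => Ideal.Quotient.mk m (s i)) f = Ideal.Quotient.mk m (eval s f) := by
      have := aeval_algebraMap_apply (R := R) (A := R) (B := R ⧸ m) s f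
      rw [aeval_eq_eval] at this
      exact this
    rw [h1]
    letI := Ideal.Quotient.field m
    rw [isUnit_iff_ne_zero, Ne, Ideal.Quotient.eq_zero_iff_mem]
    exact hs)
  obtain ⟨s, hs⟩ := this
  refine ⟨s, ?_⟩
  rw [aeval_eq_eval] at hs
  exact hs

end Basic

end Groth.Agent.H7.LG
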