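import Mathlib
import Groth.Agent.Lib.Helper7.LG.Basic

set_option autoImplicit false
universe u v w

namespace Groth.Agent.H7.LG

open MvPolynomial
open scoped TensorProduct

section Mat
variable {S : Type*} [CommRing S] {a b : ℕ}

/-- `1 - E₁ + E₁ Y E₂ X E₁` -/
def Umat (E₁ : Matrix (Fin a) (Fin a) S) (E₂ : Matrix (Fin b) (Fin b) S)
    (X : Matrix (Fin b) (Fin a) S) (Y : Matrix (Fin a) (Fin b) S) : Matrix (Fin a) (Fin a) S :=
  1 - E₁ + E₁ * Y * E₂ * X * E₁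

theorem Umat_map {T : Type*} [CommRing T] (ρ : S →+* T) (E₁ : Matrix (Fin a) (Fin a) S)
    (E₂ : Matrix (Fin b) (Fin b) S) (X : Matrix (Fin b) (Fin a) S) (Y : Matrix (Fin a) (Fin b) S) :
    (Umat E₁ E₂ X Y).map ρ = Umat (E₁.map ρ) (E₂.map ρ) (X.map ρ) (Y.map ρ) := by
  unfold Umat
  rw [Matrix.map_add _ (map_add ρ), Matrix.map_sub _ (map_sub ρ), Matrix.map_one _ (map_zero ρ) (map_one ρ),
    Matrix.map_mul, Matrix.map_mul, Matrix.map_mul, Matrix.map_mul]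

end Mat

section Poly
variable {R : Type u} [CommRing R] {a b : ℕ}

/-- the variables: entries of `X` and of `Y` -/
abbrev Var (a b : ℕ) : Type := (Fin b × Fin a) ⊕ (Fin a × Fin b)

variable (R a b) in
noncomputable def Xgen : Matrix (Fin b) (Fin a) (MvPolynomial (Var a b) R) :=
  Matrix.of fun j i => X (Sum.inl (j, i))

variable (R a b) in
noncomputable def Ygen : Matrix (Fin a) (Fin b) (MvPolynomial (Var a b) R) :=
  Matrix.of fun i j => X (Sum.inr (i, j))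

noncomputable def Fpoly (E₁ : Matrix (Fin a) (Fin a) R) (E₂ : Matrix (Fin b) (Fin b) R) :
    MvPolynomial (Var a b) R :=
  (Umat (E₁.map C) (E₂.map C) (Xgen R a b) (Ygen R a b)).det *
    (Umat (E₂.map C) (E₁.map C) (Ygen R a b) (Xgen R a b)).det

theorem eval_Fpoly (E₁ : Matrix (Fin a) (Fin a) R) (E₂ : Matrix (Fin b) (Fin b) R)
    (s : Var a b → R) :
    eval s (Fpoly E₁ E₂) =
      (Umat E₁ E₂ (Matrix.of fun j i => s (Sum.inl (j, i)))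
        (Matrix.of fun i j => s (Sum.inr (i, j)))).det *
      (Umat E₂ E₁ (Matrix.of fun i j => s (Sum.inr (i, j)))
        (Matrix.of fun j i => s (Sum.inl (j, i)))).det := by
  have hE : ∀ {n : ℕ} (E : Matrix (Fin n) (Fin n) R), (E.map C).map (eval s) = E := by
    intro n E
    ext i j
    simp
  have hX : (Xgen R a b).map (eval s) = Matrix.of fun j i => s (Sum.inl (j, i)) := by
    ext j i
    simp [Xgen]
  have hY : (Ygen R a b).map (eval s) = Matrix.of fun i j => s (Sum.inr (i, j)) := by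
    ext i j
    simp [Ygen]
  rw [Fpoly, map_mul, RingHom.map_det, RingHom.map_det, RingHom.mapMatrix_apply,
    RingHom.mapMatrix_apply, Umat_map, Umat_map, hE, hE, hX, hY]

end Poly

section Mod
variable {R : Type u} [CommRing R] {a b : ℕ}
  {M₁ : Type v} {M₂ : Type w} [AddCommGroup M₁] [Module R M₁] [AddCommGroup M₂] [Module R M₂]

/-- one half of the isomorphism criterion -/
theorem bijective_comp_of_isUnit (i₁ : M₁ →ₗ[R] (Fin a → R)) (π₁ : (Fin a → R) →ₗ[R] M₁)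
    (h₁ : π₁ ∘ₗ i₁ = LinearMap.id) (i₂ : M₂ →ₗ[R] (Fin b → R)) (π₂ : (Fin b → R) →ₗ[R] M₂)
    (x : Matrix (Fin b) (Fin a) R) (y : Matrix (Fin a) (Fin b) R)
    (hU : IsUnit (Umat (LinearMap.toMatrix' (i₁ ∘ₗ π₁)) (LinearMap.toMatrix' (i₂ ∘ₗ π₂)) x y).det) :
    Function.Bijective ((π₁ ∘ₗ Matrix.toLin' y ∘ₗ i₂) ∘ₗ (π₂ ∘ₗ Matrix.toLin' x ∘ₗ i₁)) := by
  set T : (Fin a → R) →ₗ[R] (Fin a → R) :=
    Matrix.toLin' (Umat (LinearMap.toMatrix' (i₁ ∘ₗ π₁)) (LinearMap.toMatrix' (i₂ ∘ₗ π₂)) x y) with hT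
  have hTeq : T = LinearMap.id - i₁ ∘ₗ π₁ +
      (i₁ ∘ₗ π₁) ∘ₗ Matrix.toLin' y ∘ₗ (i₂ ∘ₗ π₂) ∘ₗ Matrix.toLin' x ∘ₗ (i₁ ∘ₗ π₁) := by
    rw [hT, Umat, map_add, map_sub, Matrix.toLin'_one, Matrix.toLin'_mul, Matrix.toLin'_mul,
      Matrix.toLin'_mul, Matrix.toLin'_mul, Matrix.toLin'_toMatrix', Matrix.toLin'_toMatrix']
    rfl
  have hπi : ∀ m, π₁ (i₁ m) = m := fun m => LinearMap.congr_fun h₁ m
  have hTbij : Function.Bijective T := by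
    have h1 : IsUnit (Umat (LinearMap.toMatrix' (i₁ ∘ₗ π₁)) (LinearMap.toMatrix' (i₂ ∘ₗ π₂)) x y) :=
      (Matrix.isUnit_iff_isUnit_det _).mpr hU
    have h2 := h1.map (Matrix.toLinAlgEquiv' (R := R) (n := Fin a))
    exact (Module.End.isUnit_iff _).mp h2
  have hTi : ∀ m, T (i₁ m) = i₁ ((π₁ ∘ₗ Matrix.toLin' y ∘ₗ i₂) ((π₂ ∘ₗ Matrix.toLin' x ∘ₗ i₁) m)) := by
    intro m
    rw [hTeq]
    simp only [LinearMap.add_apply, LinearMap.sub_apply, LinearMap.id_apply, LinearMap.comp_apply,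
      hπi, sub_self, zero_add]
  have hπT : ∀ z, π₁ (T z) =
      (π₁ ∘ₗ Matrix.toLin' y ∘ₗ i₂) ((π₂ ∘ₗ Matrix.toLin' x ∘ₗ i₁) (π₁ z)) := by
    intro z
    rw [hTeq]
    simp only [LinearMap.add_apply, LinearMap.sub_apply, LinearMap.id_apply, LinearMap.comp_apply,
      map_add, map_sub, hπi, sub_self, zero_add]
  have hi₁ : Function.Injective i₁ := Function.LeftInverse.injective hπi
  constructor
  · intro m m' hmm
    apply hi₁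
    apply hTbij.1
    rw [hTi, hTi]
    rw [LinearMap.comp_apply, LinearMap.comp_apply] at hmm
    exact congrArg i₁ hmm
  · intro m
    obtain ⟨z, hz⟩ := hTbij.2 (i₁ m)
    refine ⟨π₁ z, ?_⟩
    rw [LinearMap.comp_apply, ← hπT, hz, hπi]

theorem nonempty_equiv_of_isUnit (i₁ : M₁ →ₗ[R] (Fin a → R)) (π₁ : (Fin a → R) →ₗ[R] M₁)
    (h₁ : π₁ ∘ₗ i₁ = LinearMap.id) (i₂ : M₂ →ₗ[R] (Fin b → R)) (π₂ : (Fin b → R) →ₗ[R] M₂)
    (h₂ : π₂ ∘ₗ i₂ = LinearMap.id)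
    (x : Matrix (Fin b) (Fin a) R) (y : Matrix (Fin a) (Fin b) R)
    (hU : IsUnit (Umat (LinearMap.toMatrix' (i₁ ∘ₗ π₁)) (LinearMap.toMatrix' (i₂ ∘ₗ π₂)) x y).det)
    (hV : IsUnit (Umat (LinearMap.toMatrix' (i₂ ∘ₗ π₂)) (LinearMap.toMatrix' (i₁ ∘ₗ π₁)) y x).det) :
    Nonempty (M₁ ≃ₗ[R] M₂) := by
  have h12 := bijective_comp_of_isUnit i₁ π₁ h₁ i₂ π₂ x y hU
  have h21 := bijective_comp_of_isUnit i₂ π₂ h₂ i₁ π₁ y x hV
  have hinj : Function.Injective (π₂ ∘ₗ Matrix.toLin' x ∘ₗ i₁) := by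
    have := h12.1
    rw [LinearMap.coe_comp] at this
    exact Function.Injective.of_comp this
  have hsurj : Function.Surjective (π₂ ∘ₗ Matrix.toLin' x ∘ₗ i₁) := by
    have := h21.2
    rw [LinearMap.coe_comp] at this
    exact Function.Surjective.of_comp this
  exact ⟨LinearEquiv.ofBijective _ ⟨hinj, hsurj⟩⟩

end Mod

section Residue

/-- abstract computation: `Umat = 1` for matrices built from an isomorphism -/
theorem Umat_eq_one {κ : Type*} [CommRing κ] {a b : ℕ} {Fa Fb N₁ N₂ : Type*}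
    [AddCommGroup Fa] [Module κ Fa] [AddCommGroup Fb] [Module κ Fb]
    [AddCommGroup N₁] [Module κ N₁] [AddCommGroup N₂] [Module κ N₂]
    (Ba : Module.Basis (Fin a) κ Fa) (Bb : Module.Basis (Fin b) κ Fb)
    (I₁ : N₁ →ₗ[κ] Fa) (P₁ : Fa →ₗ[κ] N₁) (h₁ : P₁ ∘ₗ I₁ = LinearMap.id)
    (I₂ : N₂ →ₗ[κ] Fb) (P₂ : Fb →ₗ[κ] N₂) (h₂ : P₂ ∘ₗ I₂ = LinearMap.id)
    (θ : N₁ →ₗ[κ] N₂) (θ' : N₂ →ₗ[κ] N₁) (hθ : θ' ∘ₗ θ = LinearMap.id) :
    Umat (LinearMap.toMatrix Ba Ba (I₁ ∘ₗ P₁)) (LinearMap.toMatrix Bb Bb (I₂ ∘ₗ P₂))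
      (LinearMap.toMatrix Ba Bb (I₂ ∘ₗ θ ∘ₗ P₁)) (LinearMap.toMatrix Bb Ba (I₁ ∘ₗ θ' ∘ₗ P₂)) = 1 := by
  have hπi₁ : ∀ m, P₁ (I₁ m) = m := fun m => LinearMap.congr_fun h₁ m
  have hπi₂ : ∀ m, P₂ (I₂ m) = m := fun m => LinearMap.congr_fun h₂ m
  have hθ' : ∀ m, θ' (θ m) = m := fun m => LinearMap.congr_fun hθ m
  have hL : ((((I₁ ∘ₗ P₁) ∘ₗ (I₁ ∘ₗ θ' ∘ₗ P₂)) ∘ₗ (I₂ ∘ₗ P₂)) ∘ₗ (I₂ ∘ₗ θ ∘ₗ P₁)) ∘ₗ (I₁ ∘ₗ P₁) =
      I₁ ∘ₗ P₁ := by
    ext z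
    simp only [LinearMap.comp_apply, hπi₁, hπi₂, hθ']
  rw [Umat, ← LinearMap.toMatrix_comp Bb Ba Ba, ← LinearMap.toMatrix_comp Bb Bb Ba,
    ← LinearMap.toMatrix_comp Ba Bb Ba, ← LinearMap.toMatrix_comp Ba Ba Ba, hL, sub_add_cancel]

variable {R : Type u} [CommRing R] {a b : ℕ}
  {M₁ : Type v} {M₂ : Type w} [AddCommGroup M₁] [Module R M₁] [AddCommGroup M₂] [Module R M₂]

theorem exists_not_mem (m : Ideal R) [m.IsMaximal]
    (θ : (R ⧸ m) ⊗[R] M₁ ≃ₗ[R ⧸ m] (R ⧸ m) ⊗[R] M₂)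
    (i₁ : M₁ →ₗ[R] (Fin a → R)) (π₁ : (Fin a → R) →ₗ[R] M₁)
    (h₁ : π₁ ∘ₗ i₁ = LinearMap.id) (i₂ : M₂ →ₗ[R] (Fin b → R)) (π₂ : (Fin b → R) →ₗ[R] M₂)
    (h₂ : π₂ ∘ₗ i₂ = LinearMap.id) :
    ∃ (x : Matrix (Fin b) (Fin a) R) (y : Matrix (Fin a) (Fin b) R),
      (Umat (LinearMap.toMatrix' (i₁ ∘ₗ π₁)) (LinearMap.toMatrix' (i₂ ∘ₗ π₂)) x y).det *
        (Umat (LinearMap.toMatrix' (i₂ ∘ₗ π₂)) (LinearMap.toMatrix' (i₁ ∘ₗ π₁)) y x).det ∉ m := by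
  classical
  let q : R →+* R ⧸ m := Ideal.Quotient.mk m
  let Ba := Algebra.TensorProduct.basis (R ⧸ m) (Pi.basisFun R (Fin a))
  let Bb := Algebra.TensorProduct.basis (R ⧸ m) (Pi.basisFun R (Fin b))
  have hPI₁ : π₁.baseChange (R ⧸ m) ∘ₗ i₁.baseChange (R ⧸ m) = LinearMap.id := by
    rw [← LinearMap.baseChange_comp, h₁, LinearMap.baseChange_id]
  have hPI₂ : π₂.baseChange (R ⧸ m) ∘ₗ i₂.baseChange (R ⧸ m) = LinearMap.id := by
    rw [← LinearMap.baseChange_comp, h₂, LinearMap.baseChange_id]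
  have hE₁ : (LinearMap.toMatrix' (i₁ ∘ₗ π₁)).map q =
      LinearMap.toMatrix Ba Ba (i₁.baseChange (R ⧸ m) ∘ₗ π₁.baseChange (R ⧸ m)) := by
    rw [← LinearMap.baseChange_comp, LinearMap.toMatrix_baseChange, LinearMap.toMatrix_eq_toMatrix']
    rfl
  have hE₂ : (LinearMap.toMatrix' (i₂ ∘ₗ π₂)).map q =
      LinearMap.toMatrix Bb Bb (i₂.baseChange (R ⧸ m) ∘ₗ π₂.baseChange (R ⧸ m)) := by
    rw [← LinearMap.baseChange_comp, LinearMap.toMatrix_baseChange, LinearMap.toMatrix_eq_toMatrix']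
    rfl
  let xb : Matrix (Fin b) (Fin a) (R ⧸ m) := LinearMap.toMatrix Ba Bb
    (i₂.baseChange (R ⧸ m) ∘ₗ θ.toLinearMap ∘ₗ π₁.baseChange (R ⧸ m))
  let yb : Matrix (Fin a) (Fin b) (R ⧸ m) := LinearMap.toMatrix Bb Ba
    (i₁.baseChange (R ⧸ m) ∘ₗ θ.symm.toLinearMap ∘ₗ π₂.baseChange (R ⧸ m))
  have hU : Umat ((LinearMap.toMatrix' (i₁ ∘ₗ π₁)).map q) ((LinearMap.toMatrix' (i₂ ∘ₗ π₂)).map q)
      xb yb = 1 := by
    rw [hE₁, hE₂]
    exact Umat_eq_one Ba Bb _ _ hPI₁ _ _ hPI₂ θ.toLinearMap θ.symm.toLinearMap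
      (by ext z; simp)
  have hV : Umat ((LinearMap.toMatrix' (i₂ ∘ₗ π₂)).map q) ((LinearMap.toMatrix' (i₁ ∘ₗ π₁)).map q)
      yb xb = 1 := by
    rw [hE₁, hE₂]
    exact Umat_eq_one Bb Ba _ _ hPI₂ _ _ hPI₁ θ.symm.toLinearMap θ.toLinearMap
      (by ext z; simp)
  have hsurj : Function.Surjective q := Ideal.Quotient.mk_surjective
  choose x hx using fun j i => hsurj (xb j i)
  choose y hy using fun i j => hsurj (yb i j)
  have hxb : (Matrix.of x).map q = xb := by ext j i; exact hx j i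
  have hyb : (Matrix.of y).map q = yb := by ext i j; exact hy i j
  refine ⟨Matrix.of x, Matrix.of y, ?_⟩
  rw [← Ideal.Quotient.eq_zero_iff_mem]
  change q _ ≠ 0
  rw [map_mul, RingHom.map_det, RingHom.map_det, RingHom.mapMatrix_apply, RingHom.mapMatrix_apply,
    Umat_map, Umat_map, hxb, hyb, hU, hV, Matrix.det_one, Matrix.det_one, mul_one]
  exact one_ne_zero

end Residue

section KL
variable {R : Type u} [CommRing R]

/-- Over an LG-ring, two finite projective modules whose fibres at every maximal ideal are isomorphic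
are isomorphic. -/
theorem nonempty_linearEquiv_of_residue (hR : LGRing.IsLGRing R)
    (M₁ : Type v) (M₂ : Type w) [AddCommGroup M₁] [Module R M₁] [Module.Finite R M₁]
    [Module.Projective R M₁] [AddCommGroup M₂] [Module R M₂] [Module.Finite R M₂]
    [Module.Projective R M₂]
    (h : ∀ (m : Ideal R) [m.IsMaximal],
      Nonempty ((R ⧸ m) ⊗[R] M₁ ≃ₗ[R ⧸ m] (R ⧸ m) ⊗[R] M₂)) :
    Nonempty (M₁ ≃ₗ[R] M₂) := by
  obtain ⟨a, π₁, hπ₁⟩ := Module.Finite.exists_fin' R M₁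
  obtain ⟨i₁, h₁⟩ := Module.projective_lifting_property π₁ LinearMap.id hπ₁
  obtain ⟨b, π₂, hπ₂⟩ := Module.Finite.exists_fin' R M₂
  obtain ⟨i₂, h₂⟩ := Module.projective_lifting_property π₂ LinearMap.id hπ₂
  obtain ⟨s, hs⟩ := exists_isUnit_eval hR
    (Fpoly (LinearMap.toMatrix' (i₁ ∘ₗ π₁)) (LinearMap.toMatrix' (i₂ ∘ₗ π₂))) (fun m _ => by
      obtain ⟨θ⟩ := h m
      obtain ⟨x, y, hxy⟩ := exists_not_mem m θ i₁ π₁ h₁ i₂ π₂ h₂
      refine ⟨Sum.elim (fun p => x p.1 p.2) (fun p => y p.1 p.2), ?_⟩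
      rw [eval_Fpoly]
      exact hxy)
  rw [eval_Fpoly, IsUnit.mul_iff] at hs
  exact nonempty_equiv_of_isUnit i₁ π₁ h₁ i₂ π₂ h₂ _ _ hs.1 hs.2

/-- Variant: equal fibre dimensions suffice. -/
theorem nonempty_linearEquiv_of_finrank (hR : LGRing.IsLGRing R)
    (M₁ : Type v) (M₂ : Type w) [AddCommGroup M₁] [Module R M₁] [Module.Finite R M₁]
    [Module.Projective R M₁] [AddCommGroup M₂] [Module R M₂] [Module.Finite R M₂]
    [Module.Projective R M₂]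
    (h : ∀ (m : Ideal R) [m.IsMaximal],
      Module.finrank (R ⧸ m) ((R ⧸ m) ⊗[R] M₁) = Module.finrank (R ⧸ m) ((R ⧸ m) ⊗[R] M₂)) :
    Nonempty (M₁ ≃ₗ[R] M₂) := by
  apply nonempty_linearEquiv_of_residue hR
  intro m _
  letI := Ideal.Quotient.field m
  exact ⟨LinearEquiv.ofFinrankEq _ _ (h m)⟩

end KL

end Groth.Agent.H7.LG
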