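import Mathlib
import Groth.Agent.Lib.Helper7.LG.Iso

set_option autoImplicit false
universe u v w

namespace Groth.Agent.H7.LG

open scoped TensorProduct

section Cancel
variable {R : Type u} [CommRing R]

theorem nontrivial_residue_tensor (m : Ideal R) [m.IsMaximal] (N : Type v) [AddCommGroup N]
    [Module R N] [Module.Finite R N] [FaithfulSMul R N] : Nontrivial ((R ⧸ m) ⊗[R] N) := by
  by_contra hcon
  rw [not_nontrivial_iff_subsingleton] at hcon
  haveI : Subsingleton (N ⧸ m • (⊤ : Submodule R N)) :=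
    (TensorProduct.quotTensorEquivQuotSMul N m).symm.toEquiv.subsingleton
  have htop : m • (⊤ : Submodule R N) = ⊤ := Submodule.Quotient.subsingleton_iff.mp this
  obtain ⟨r, hr1, hr2⟩ := Submodule.exists_sub_one_mem_and_smul_eq_zero_of_fg_of_le_smul m
    (⊤ : Submodule R N) Module.Finite.fg_top (le_of_eq htop.symm)
  have hr0 : r = 0 := by
    apply FaithfulSMul.eq_of_smul_eq_smul (α := N)
    intro n
    rw [hr2 n Submodule.mem_top, zero_smul]
  rw [hr0, zero_sub] at hr1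
  have : (1 : R) ∈ m := by simpa using m.neg_mem hr1
  exact (Ideal.IsMaximal.ne_top ‹_›) ((Ideal.eq_top_iff_one m).mpr this)

/-- S16605 -/
theorem cancel_pi (hR : LGRing.IsLGRing R)
    (M₁ : Type v) (M₂ : Type w) [AddCommGroup M₁] [Module R M₁] [Module.Finite R M₁]
    [Module.Projective R M₁] [AddCommGroup M₂] [Module R M₂] [Module.Finite R M₂]
    [Module.Projective R M₂] (n : ℕ) (hn : 0 < n)
    (e : (Fin n → M₁) ≃ₗ[R] (Fin n → M₂)) : Nonempty (M₁ ≃ₗ[R] M₂) := by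
  apply nonempty_linearEquiv_of_finrank hR
  intro m _
  letI := Ideal.Quotient.field m
  have e1 : (Fin n → (R ⧸ m) ⊗[R] M₁) ≃ₗ[R ⧸ m] (Fin n → (R ⧸ m) ⊗[R] M₂) :=
    (TensorProduct.piRight R (R ⧸ m) (R ⧸ m) (fun _ : Fin n => M₁)).symm ≪≫ₗ
      (LinearEquiv.baseChange R (R ⧸ m) _ _ e) ≪≫ₗ
      TensorProduct.piRight R (R ⧸ m) (R ⧸ m) (fun _ : Fin n => M₂)
  have h := e1.finrank_eq
  rw [Module.finrank_pi_fintype, Module.finrank_pi_fintype, Finset.sum_const, Finset.sum_const,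
    Finset.card_univ, Fintype.card_fin, smul_eq_mul, smul_eq_mul] at h
  exact Nat.eq_of_mul_eq_mul_left hn h

/-- S16606 -/
theorem cancel_tensor (hR : LGRing.IsLGRing R)
    (M₁ : Type v) (M₂ : Type w) (N : Type v) [AddCommGroup M₁] [Module R M₁] [Module.Finite R M₁]
    [Module.Projective R M₁] [AddCommGroup M₂] [Module R M₂] [Module.Finite R M₂]
    [Module.Projective R M₂] [AddCommGroup N] [Module R N] [Module.Finite R N]
    [Module.Projective R N] [FaithfulSMul R N]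
    (e : M₁ ⊗[R] N ≃ₗ[R] M₂ ⊗[R] N) : Nonempty (M₁ ≃ₗ[R] M₂) := by
  apply nonempty_linearEquiv_of_finrank hR
  intro m _
  letI := Ideal.Quotient.field m
  have e1 : ((R ⧸ m) ⊗[R] M₁) ⊗[R ⧸ m] ((R ⧸ m) ⊗[R] N) ≃ₗ[R ⧸ m]
      ((R ⧸ m) ⊗[R] M₂) ⊗[R ⧸ m] ((R ⧸ m) ⊗[R] N) :=
    (TensorProduct.AlgebraTensorModule.distribBaseChange R (R ⧸ m) M₁ N).symm ≪≫ₗ
      LinearEquiv.baseChange R (R ⧸ m) _ _ e ≪≫ₗ
      TensorProduct.AlgebraTensorModule.distribBaseChange R (R ⧸ m) M₂ N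
  have h := e1.finrank_eq
  rw [Module.finrank_tensorProduct (R := R ⧸ m) (S := R ⧸ m) (M := (R ⧸ m) ⊗[R] M₁)
      (M' := (R ⧸ m) ⊗[R] N),
    Module.finrank_tensorProduct (R := R ⧸ m) (S := R ⧸ m) (M := (R ⧸ m) ⊗[R] M₂)
      (M' := (R ⧸ m) ⊗[R] N)] at h
  have hN : 0 < Module.finrank (R ⧸ m) ((R ⧸ m) ⊗[R] N) := by
    rw [Module.finrank_pos_iff]
    exact nontrivial_residue_tensor m N
  exact Nat.eq_of_mul_eq_mul_right hN h

/-- S16597 -/
theorem free_of_rankAtStalk_const (hR : LGRing.IsLGRing R)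
    (M : Type v) [AddCommGroup M] [Module R M] [Module.Finite R M] [Module.Projective R M] (d : ℕ)
    (hd : ∀ p : PrimeSpectrum R, Module.rankAtStalk M p = d) : Module.Free R M := by
  obtain ⟨e⟩ := nonempty_linearEquiv_of_finrank hR M (Fin d → R) (fun m _ => by
    letI := Ideal.Quotient.field m
    have h1 : Module.finrank (R ⧸ m) ((R ⧸ m) ⊗[R] M) = d := by
      have h2 := Module.rankAtStalk_baseChange (R := R) (M := M) (S := R ⧸ m)
        ⟨⊥, Ideal.isPrime_bot⟩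
      rw [hd, Module.rankAtStalk_eq_finrank_of_free] at h2
      exact h2
    have h3 : Module.finrank (R ⧸ m) ((R ⧸ m) ⊗[R] (Fin d → R)) = d := by
      rw [(TensorProduct.piScalarRight R (R ⧸ m) (R ⧸ m) (Fin d)).finrank_eq,
        Module.finrank_fin_fun]
    rw [h1, h3])
  exact Module.Free.of_equiv e.symm

end Cancel

end Groth.Agent.H7.LG
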