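import Mathlib
import Groth.Agent.Lib.Helper7.LG.Cancel

set_option autoImplicit false
universe u v w

namespace Groth.Agent.H7.LG

open scoped TensorProduct
open MulOpposite

section Retr
variable (R : Type u) [CommRing R] (C : Type v) [Ring C] [Algebra R C]

/-- the unit of a faithfully projective algebra is unimodular. -/
theorem exists_retraction [Module.Finite R C] [Module.Projective R C] [FaithfulSMul R C] :
    ∃ τ : C →ₗ[R] R, τ 1 = 1 := by
  classical
  set J : Ideal R := LinearMap.range (LinearMap.applyₗ (1 : C) : (C →ₗ[R] R) →ₗ[R] R) with hJ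
  have hmem : ∀ f : C →ₗ[R] R, f 1 ∈ J := fun f => ⟨f, rfl⟩
  have htop : J = ⊤ := by
    by_contra hne
    obtain ⟨m, hm, hle⟩ := Ideal.exists_le_maximal J hne
    obtain ⟨n, π, hπ⟩ := Module.Finite.exists_fin' R C
    obtain ⟨i, hi⟩ := Module.projective_lifting_property π LinearMap.id hπ
    have h1 : (1 : C) = ∑ j, (i 1) j • π (fun j' => if j = j' then (1 : R) else 0) := by
      have h2 : i 1 = ∑ j, (i 1) j • (fun j' => if j = j' then (1 : R) else 0 : Fin n → R) :=
        pi_eq_sum_univ (i 1)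
      have h3 := congrArg π h2
      rw [map_sum] at h3
      simp only [map_smul] at h3
      rw [← h3]
      exact (LinearMap.congr_fun hi 1).symm
    haveI := nontrivial_residue_tensor m C
    have h0 : ((1 : R ⧸ m) ⊗ₜ[R] (1 : C)) = 0 := by
      rw [h1, TensorProduct.tmul_sum]
      apply Finset.sum_eq_zero
      intro j _
      rw [TensorProduct.tmul_smul, TensorProduct.smul_tmul', Algebra.smul_def, mul_one]
      have : algebraMap R (R ⧸ m) ((i 1) j) = 0 := by
        rw [Ideal.Quotient.algebraMap_eq, Ideal.Quotient.eq_zero_iff_mem]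
        exact hle (hmem ((LinearMap.proj j : (Fin n → R) →ₗ[R] R) ∘ₗ i))
      rw [this, TensorProduct.zero_tmul]
    have h10 : (1 : (R ⧸ m) ⊗[R] C) = 0 := h0
    exact one_ne_zero h10
  have : (1 : R) ∈ J := by rw [htop]; trivial
  obtain ⟨τ, hτ⟩ := this
  exact ⟨τ, hτ⟩

end Retr

section Sep
variable (R : Type u) [CommRing R] (C : Type v) [Ring C] [Algebra R C] [IsAzumaya R C]

/-- an Azumaya algebra is central. -/
theorem center_azumaya (z : C) (hz : ∀ c : C, z * c = c * z) : ∃ r : R, z = algebraMap R C r := by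
  obtain ⟨τ, hτ⟩ := exists_retraction R C
  have h1 : AlgHom.mulLeftRight R C (z ⊗ₜ[R] (1 : Cᵐᵒᵖ)) =
      AlgHom.mulLeftRight R C ((1 : C) ⊗ₜ[R] op z) := by
    ext x
    rw [AlgHom.mulLeftRight_apply, AlgHom.mulLeftRight_apply, unop_one, mul_one, unop_op, one_mul, hz]
  have h2 := (IsAzumaya.bij (R := R) (A := C)).1 h1
  have h3 := congrArg ((TensorProduct.lid R Cᵐᵒᵖ).toLinearMap ∘ₗ τ.rTensor Cᵐᵒᵖ) h2
  simp only [LinearMap.comp_apply, LinearMap.rTensor_tmul, LinearEquiv.coe_coe,
    TensorProduct.lid_tmul, hτ, one_smul] at h3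
  refine ⟨τ z, ?_⟩
  have h4 := congrArg unop h3
  rw [unop_smul, unop_one, unop_op] at h4
  exact h4.symm.trans (by rw [Algebra.smul_def, mul_one])

/-- separability element of an Azumaya algebra -/
theorem exists_sepElement : ∃ ε : C ⊗[R] Cᵐᵒᵖ, AlgHom.mulLeftRight R C ε 1 = 1 ∧
    ∀ c : C, (c ⊗ₜ[R] (1 : Cᵐᵒᵖ)) * ε = ((1 : C) ⊗ₜ[R] op c) * ε := by
  obtain ⟨τ, hτ⟩ := exists_retraction R C
  obtain ⟨ε, hε⟩ := (IsAzumaya.bij (R := R) (A := C)).2 ((Algebra.linearMap R C) ∘ₗ τ)
  refine ⟨ε, ?_, ?_⟩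
  · rw [hε, LinearMap.comp_apply, hτ, Algebra.linearMap_apply, map_one]
  · intro c
    apply (IsAzumaya.bij (R := R) (A := C)).1
    rw [map_mul, map_mul, hε]
    ext x
    rw [Module.End.mul_apply, Module.End.mul_apply, LinearMap.comp_apply, Algebra.linearMap_apply,
      AlgHom.mulLeftRight_apply, AlgHom.mulLeftRight_apply, unop_one, mul_one, unop_op, one_mul,
      Algebra.commutes]

end Sep

end Groth.Agent.H7.LG
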