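import Mathlib
import Groth.Agent.Lib.Helper7.LG.AzSep

set_option autoImplicit false
universe u v w

namespace Groth.Agent.H7.LG

open scoped TensorProduct
open MulOpposite

section Ideals
variable (R : Type u) [CommRing R] (A : Type v) [Ring A] [Algebra R A] [IsAzumaya R A]

theorem mulLeftRight_mem (I : TwoSidedIdeal A) (z : A ⊗[R] Aᵐᵒᵖ) (x : A) (hx : x ∈ I) :
    AlgHom.mulLeftRight R A z x ∈ I := by
  induction z using TensorProduct.induction_on with
  | zero => simp
  | tmul a b =>
    rw [AlgHom.mulLeftRight_apply]
    exact I.mul_mem_right _ _ (I.mul_mem_left _ _ hx)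
  | add z₁ z₂ h₁ h₂ =>
    rw [map_add, LinearMap.add_apply]
    exact I.add_mem h₁ h₂

/-- two-sided ideals of an Azumaya algebra are extended from the base. -/
theorem twoSidedIdeal_eq_map_comap (I : TwoSidedIdeal A) :
    TwoSidedIdeal.asIdeal I =
      Ideal.map (algebraMap R A) ((TwoSidedIdeal.asIdeal I).comap (algebraMap R A)) := by
  classical
  apply le_antisymm
  · intro x hx
    have hxI : x ∈ I := (TwoSidedIdeal.mem_asIdeal).mp hx
    obtain ⟨n, π, hπ⟩ := Module.Finite.exists_fin' R A
    obtain ⟨i, hi⟩ := Module.projective_lifting_property π LinearMap.id hπ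
    let c : Fin n → A := fun j => π (fun j' => if j = j' then (1 : R) else 0)
    let f : Fin n → (A →ₗ[R] R) := fun j => (LinearMap.proj j : (Fin n → R) →ₗ[R] R) ∘ₗ i
    have hdual : x = ∑ j, f j x • c j := by
      have h2 : i x = ∑ j, (i x) j • (fun j' => if j = j' then (1 : R) else 0 : Fin n → R) :=
        pi_eq_sum_univ (i x)
      have h3 := congrArg π h2
      rw [map_sum] at h3
      simp only [map_smul] at h3
      rw [show π (i x) = x from LinearMap.congr_fun hi x] at h3
      exact h3
    have hmem : ∀ j, f j x ∈ (TwoSidedIdeal.asIdeal I).comap (algebraMap R A) := by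
      intro j
      obtain ⟨z, hz⟩ := (IsAzumaya.bij (R := R) (A := A)).2 ((Algebra.linearMap R A) ∘ₗ f j)
      have := mulLeftRight_mem R A I z x hxI
      rw [hz, LinearMap.comp_apply, Algebra.linearMap_apply] at this
      exact (TwoSidedIdeal.mem_asIdeal).mpr this
    rw [hdual]
    apply Ideal.sum_mem
    intro j _
    rw [Algebra.smul_def, Algebra.commutes]
    exact Ideal.mul_mem_left _ _ (Ideal.mem_map_of_mem _ (hmem j))
  · exact Ideal.map_comap_le

theorem comap_map_eq (J : Ideal R) : (Ideal.map (algebraMap R A) J).comap (algebraMap R A) = J := by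
  apply le_antisymm
  · intro r hr
    rw [Ideal.mem_comap] at hr
    obtain ⟨τ, hτ⟩ := exists_retraction R A
    have key : ∀ y ∈ Ideal.map (algebraMap R A) J, ∀ g : A →ₗ[R] R, g y ∈ J := by
      intro y hy
      refine Submodule.span_induction (p := fun y _ => ∀ g : A →ₗ[R] R, g y ∈ J) ?_ ?_ ?_ ?_ hy
      · rintro _ ⟨j, hj, rfl⟩ g
        rw [Algebra.algebraMap_eq_smul_one, map_smul, smul_eq_mul]
        exact Ideal.mul_mem_right _ _ hj
      · intro g
        rw [map_zero]
        exact J.zero_mem
      · intro y₁ y₂ _ _ h₁ h₂ g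
        rw [map_add]
        exact J.add_mem (h₁ g) (h₂ g)
      · intro a y _ h g
        have := h (g ∘ₗ LinearMap.mulLeft R a)
        rwa [LinearMap.comp_apply, LinearMap.mulLeft_apply] at this
    have := key _ hr τ
    rwa [Algebra.algebraMap_eq_smul_one, map_smul, hτ, smul_eq_mul, mul_one] at this
  · exact Ideal.le_comap_map

end Ideals

section Idem
variable {R : Type u} [CommRing R] {A : Type v} [Ring A] [Algebra R A] [Module.Finite R A]
  [Module.Projective R A]

/-- an idempotent of a finite projective algebra over a connected ring which dies after a nonzero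
base change is zero. -/
theorem idem_eq_zero_of_baseChange [ConnectedSpace (PrimeSpectrum R)]
    (e : A) (he : IsIdempotentElem e) (R' : Type w) [CommRing R'] [Nontrivial R'] [Algebra R R']
    (h0 : (1 : R') ⊗ₜ[R] e = (0 : R' ⊗[R] A)) : e = 0 := by
  let Le : A →ₗ[R] A := LinearMap.mulLeft R e
  let M := LinearMap.range Le
  let p : A →ₗ[R] M := Le.rangeRestrict
  let ι : M →ₗ[R] A := M.subtype
  have hpι : p ∘ₗ ι = LinearMap.id := by
    ext ⟨m, a, rfl⟩
    show e * (e * a) = e * a
    rw [← mul_assoc, he.eq]
  haveI : Module.Projective R M := Module.Projective.of_split ι p hpι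
  haveI : Module.Finite R M := Module.Finite.of_surjective p Le.surjective_rangeRestrict
  haveI : Module.FinitePresentation R M := Module.finitePresentation_of_projective R M
  have hsub : Subsingleton (R' ⊗[R] M) := by
    have h1 : (ι.baseChange R') ∘ₗ (p.baseChange R') = 0 := by
      ext a
      simp only [TensorProduct.AlgebraTensorModule.curry_apply, TensorProduct.curry_apply,
        LinearMap.coe_restrictScalars, LinearMap.coe_comp, Function.comp_apply,
        LinearMap.baseChange_tmul, LinearMap.zero_apply]
      show (1 : R') ⊗ₜ[R] (e * a) = 0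
      have : (1 : R') ⊗ₜ[R] (e * a) = ((1 : R') ⊗ₜ[R] e) * ((1 : R') ⊗ₜ[R] a) := by
        rw [Algebra.TensorProduct.tmul_mul_tmul, mul_one]
      rw [this, h0, zero_mul]
    have h2 : (p.baseChange R') ∘ₗ (ι.baseChange R') = LinearMap.id := by
      rw [← LinearMap.baseChange_comp, hpι, LinearMap.baseChange_id]
    constructor
    intro x y
    have hx : ∀ z : R' ⊗[R] M, z = 0 := by
      intro z
      have h3 := LinearMap.congr_fun h2 z
      have h4 := LinearMap.congr_fun h2 (p.baseChange R' (ι.baseChange R' z))
      simp only [LinearMap.comp_apply, LinearMap.id_apply] at h3 h4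
      have h5 := LinearMap.congr_fun h1 (ι.baseChange R' z)
      simp only [LinearMap.comp_apply, LinearMap.zero_apply] at h5
      rw [← h3, ← h4, h5, map_zero]
    rw [hx x, hx y]
  obtain ⟨q'⟩ : Nonempty (PrimeSpectrum R') := inferInstance
  have hr0 : Module.rankAtStalk M (q'.comap (algebraMap R R')) = 0 := by
    rw [← Module.rankAtStalk_baseChange (R := R) (M := M) q',
      Module.rankAtStalk_eq_zero_of_subsingleton]
    rfl
  have hconst : ∀ q : PrimeSpectrum R, Module.rankAtStalk M q = 0 := by
    intro q
    rw [← hr0]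
    exact (Module.isLocallyConstant_rankAtStalk (R := R) (M := M)).apply_eq_of_preconnectedSpace _ _
  have hM : Subsingleton M := by
    rw [← Module.rankAtStalk_eq_zero_iff_subsingleton (R := R)]
    funext q
    exact hconst q
  have hmem : (⟨e, ⟨1, by show e * 1 = e; rw [mul_one]⟩⟩ : M) = 0 := Subsingleton.elim _ _
  exact congrArg Subtype.val hmem

end Idem

end Groth.Agent.H7.LG
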