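import Mathlib
import Groth.Agent.Lib.Helper7.LG.AzIdeal
import Groth.Agent.Lib.Helper7.Azu10

set_option autoImplicit false
universe u v w

namespace Groth.Agent.H7.LG

open scoped TensorProduct

section Naka
variable {R : Type u} [CommRing R] {P : Type v} {Q : Type w} [AddCommGroup P] [Module R P]
  [AddCommGroup Q] [Module R Q]

/-- surjectivity can be tested on fibres at maximal ideals. -/
theorem surjective_of_baseChange_residue [Module.Finite R Q] (f : P →ₗ[R] Q)
    (h : ∀ (m : Ideal R) [m.IsMaximal], Function.Surjective (f.baseChange (R ⧸ m))) :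
    Function.Surjective f := by
  classical
  set N := LinearMap.range f with hN
  -- the annihilator of Q/N is not contained in any maximal ideal
  have key : ∀ (m : Ideal R) [m.IsMaximal], ∃ r : R, r - 1 ∈ m ∧ ∀ q : Q, r • q ∈ N := by
    intro m _
    have h1 : (⊤ : Submodule R (Q ⧸ N)) ≤ m • (⊤ : Submodule R (Q ⧸ N)) := by
      intro x _
      obtain ⟨q, rfl⟩ := Submodule.Quotient.mk_surjective N x
      obtain ⟨z, hz⟩ := h m ((1 : R ⧸ m) ⊗ₜ[R] q)
      -- z = 1 ⊗ p
      have hz' : ∃ p : P, z = (1 : R ⧸ m) ⊗ₜ[R] p := by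
        clear hz
        induction z using TensorProduct.induction_on with
        | zero => exact ⟨0, (TensorProduct.tmul_zero _ _).symm⟩
        | tmul s p =>
          obtain ⟨r, rfl⟩ := Ideal.Quotient.mk_surjective s
          refine ⟨r • p, ?_⟩
          rw [TensorProduct.tmul_smul, TensorProduct.smul_tmul', Algebra.smul_def, mul_one]
          rfl
        | add z₁ z₂ h₁ h₂ =>
          obtain ⟨p₁, rfl⟩ := h₁
          obtain ⟨p₂, rfl⟩ := h₂
          exact ⟨p₁ + p₂, (TensorProduct.tmul_add _ _ _).symm⟩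
      obtain ⟨p, rfl⟩ := hz'
      rw [LinearMap.baseChange_tmul] at hz
      have h2 : (1 : R ⧸ m) ⊗ₜ[R] (q - f p) = 0 := by
        rw [TensorProduct.tmul_sub, hz, sub_self]
      have h3 := congrArg (TensorProduct.quotTensorEquivQuotSMul Q m) h2
      rw [TensorProduct.quotTensorEquivQuotSMul_mk_one_tmul, map_zero,
        Submodule.Quotient.mk_eq_zero] at h3
      -- q - f p ∈ m • ⊤
      have h4 : (Submodule.mkQ N) (q - f p) ∈ m • (⊤ : Submodule R (Q ⧸ N)) := by
        have : (Submodule.mkQ N) (q - f p) ∈ Submodule.map (Submodule.mkQ N)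
            (m • (⊤ : Submodule R Q)) := Submodule.mem_map_of_mem h3
        rw [Submodule.map_smul''] at this
        exact Submodule.smul_mono (le_refl m) le_top this
      have h5 : (Submodule.mkQ N) (q - f p) = Submodule.Quotient.mk q := by
        rw [map_sub, Submodule.mkQ_apply, Submodule.mkQ_apply, sub_eq_self,
          Submodule.Quotient.mk_eq_zero]
        exact ⟨p, rfl⟩
      rwa [h5] at h4
    obtain ⟨r, hr1, hr2⟩ := Submodule.exists_sub_one_mem_and_smul_eq_zero_of_fg_of_le_smul m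
      (⊤ : Submodule R (Q ⧸ N)) Module.Finite.fg_top h1
    refine ⟨r, hr1, fun q => ?_⟩
    have := hr2 (Submodule.Quotient.mk q) Submodule.mem_top
    rwa [← Submodule.Quotient.mk_smul, Submodule.Quotient.mk_eq_zero] at this
  let a : Ideal R :=
    { carrier := {r | ∀ q : Q, r • q ∈ N}
      add_mem' := fun {x y} hx hy q => by rw [add_smul]; exact N.add_mem (hx q) (hy q)
      zero_mem' := fun q => by rw [zero_smul]; exact N.zero_mem
      smul_mem' := fun c x hx q => by
        rw [smul_eq_mul, mul_smul]; exact N.smul_mem c (hx q) }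
  have ha : a = ⊤ := by
    by_contra hne
    obtain ⟨m, hm, hle⟩ := Ideal.exists_le_maximal a hne
    obtain ⟨r, hr1, hr2⟩ := key m
    have hrm : r ∈ m := hle hr2
    have : (1 : R) ∈ m := by
      have := m.sub_mem hrm hr1
      simpa using this
    exact hm.ne_top ((Ideal.eq_top_iff_one m).mpr this)
  have h1 : (1 : R) ∈ a := by rw [ha]; trivial
  intro q
  have := h1 q
  rw [one_smul] at this
  exact this

end Naka

section AzHom
variable {L : Type u} [CommRing L] {A₁ : Type v} [Ring A₁] [Algebra L A₁] [IsAzumaya L A₁]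
  {A₂ : Type w} [Ring A₂] [Algebra L A₂] [IsAzumaya L A₂]

/-- algebra maps out of Azumaya algebras into faithful algebras are injective. -/
theorem algHom_injective_of_azumaya {A₃ : Type*} [Ring A₃] [Algebra L A₃] [FaithfulSMul L A₃]
    (Φ : A₁ →ₐ[L] A₃) : Function.Injective Φ := by
  rw [← TwoSidedIdeal.ker_eq_bot]
  have h1 := twoSidedIdeal_eq_map_comap L A₁ (TwoSidedIdeal.ker Φ)
  have h2 : (TwoSidedIdeal.asIdeal (TwoSidedIdeal.ker Φ)).comap (algebraMap L A₁) = ⊥ := by
    rw [eq_bot_iff]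
    intro l hl
    rw [Ideal.mem_comap, TwoSidedIdeal.mem_asIdeal, TwoSidedIdeal.mem_ker, AlgHom.commutes] at hl
    rw [Ideal.mem_bot]
    exact FaithfulSMul.algebraMap_injective L A₃ (hl.trans (map_zero _).symm)
  rw [h2, Ideal.map_bot] at h1
  rw [eq_bot_iff]
  intro x hx
  have : x ∈ TwoSidedIdeal.asIdeal (TwoSidedIdeal.ker Φ) := TwoSidedIdeal.mem_asIdeal.mpr hx
  rw [h1, Ideal.mem_bot] at this
  rw [this]
  exact TwoSidedIdeal.zero_mem _

/-- an algebra map between Azumaya algebras of the same rank is bijective. -/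
theorem algHom_bijective_of_azumaya (Φ : A₁ →ₐ[L] A₂)
    (hrk : ∀ (m : Ideal L) [m.IsMaximal], Module.finrank (L ⧸ m) ((L ⧸ m) ⊗[L] A₁) =
      Module.finrank (L ⧸ m) ((L ⧸ m) ⊗[L] A₂)) : Function.Bijective Φ := by
  refine ⟨algHom_injective_of_azumaya Φ, ?_⟩
  have : Function.Surjective Φ.toLinearMap := by
    apply surjective_of_baseChange_residue
    intro m hm
    letI := Ideal.Quotient.field m
    haveI : IsAzumaya (L ⧸ m) ((L ⧸ m) ⊗[L] A₁) := Azu.isAzumaya_baseChange L (L ⧸ m) A₁
    haveI : IsAzumaya (L ⧸ m) ((L ⧸ m) ⊗[L] A₂) := Azu.isAzumaya_baseChange L (L ⧸ m) A₂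
    haveI : IsSimpleRing ((L ⧸ m) ⊗[L] A₁) := Azu.isSimpleRing_of_isAzumaya_field (L ⧸ m) _
    haveI : IsSimpleRing ((L ⧸ m) ⊗[L] A₂) := Azu.isSimpleRing_of_isAzumaya_field (L ⧸ m) _
    let Φ' : (L ⧸ m) ⊗[L] A₁ →ₐ[L ⧸ m] (L ⧸ m) ⊗[L] A₂ :=
      Algebra.TensorProduct.map (AlgHom.id (L ⧸ m) (L ⧸ m)) Φ
    have hinj : Function.Injective Φ' := Φ'.toRingHom.injective
    have heq : (Φ.toLinearMap.baseChange (L ⧸ m) : (L ⧸ m) ⊗[L] A₁ → (L ⧸ m) ⊗[L] A₂) = Φ' := by
      funext z
      induction z using TensorProduct.induction_on with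
      | zero => simp
      | tmul s a => simp [Φ']
      | add z₁ z₂ h₁ h₂ => rw [map_add, map_add, h₁, h₂]
    have hinj' : Function.Injective (Φ.toLinearMap.baseChange (L ⧸ m)) := by rw [heq]; exact hinj
    exact (LinearMap.injective_iff_surjective_of_finrank_eq_finrank (hrk m)).mp hinj'
  exact this

end AzHom

end Groth.Agent.H7.LG
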