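import Mathlib
import Groth.Agent.Lib.Helper7.LG.Iso

set_option autoImplicit false
universe u v w

namespace Groth.Agent.H7.LG

open MvPolynomial
open scoped TensorProduct

section Family
variable {R : Type u} [CommRing R]

/-- quasi-compactness: a family of elements not all lying in any maximal ideal has a finite
subfamily with the same property. -/
theorem exists_finite_subfamily {ι : Type*} (p : ι → R)
    (h : ∀ (m : Ideal R) [m.IsMaximal], ∃ i, p i ∉ m) :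
    ∃ (K : ℕ) (c : Fin K → ι), ∀ (m : Ideal R) [m.IsMaximal], ∃ k, p (c k) ∉ m := by
  classical
  have htop : Ideal.span (Set.range p) = ⊤ := by
    by_contra hne
    obtain ⟨m, hm, hle⟩ := Ideal.exists_le_maximal _ hne
    obtain ⟨i, hi⟩ := h m
    exact hi (hle (Ideal.subset_span ⟨i, rfl⟩))
  obtain ⟨s, hs, hst⟩ := (Ideal.span_eq_top_iff_finite _).mp htop
  have hch : ∀ r : s, ∃ i, p i = r.1 := fun r => hs r.2
  choose c hc using hch
  refine ⟨s.card, fun k => c (s.equivFin.symm k), ?_⟩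
  intro m hm
  by_contra hcon
  have hall : ∀ k, p (c (s.equivFin.symm k)) ∈ m := by
    intro k
    by_contra hk
    exact hcon ⟨k, hk⟩
  have hsub : ((s : Finset R) : Set R) ⊆ m := by
    intro r hr
    have := hall (s.equivFin ⟨r, hr⟩)
    rw [Equiv.symm_apply_apply, hc] at this
    exact this
  have : (⊤ : Ideal R) ≤ m := by
    rw [← hst]
    exact Ideal.span_le.mpr hsub
  exact hm.ne_top (top_le_iff.mp this)

/-- The LG property for a polynomial restricted (through a linear map) to a submodule of arguments. -/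
theorem exists_isUnit_eval_of_submodule (hR : LGRing.IsLGRing R) {σ : Type} [Finite σ]
    {V : Type*} [AddCommGroup V] [Module R V] (ℓ : V →ₗ[R] (σ → R)) (H : Submodule R V)
    (φ : MvPolynomial σ R)
    (h : ∀ (m : Ideal R) [m.IsMaximal], ∃ v ∈ H, eval (ℓ v) φ ∉ m) :
    ∃ v ∈ H, IsUnit (eval (ℓ v) φ) := by
  classical
  obtain ⟨K, c, hc⟩ := exists_finite_subfamily (ι := H) (fun v => eval (ℓ v.1) φ) (fun m _ => by
    obtain ⟨v, hv, hvm⟩ := h m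
    exact ⟨⟨v, hv⟩, hvm⟩)
  let g : σ → MvPolynomial (Fin K) R := fun i => ∑ k, C (ℓ (c k).1 i) * X k
  have heval : ∀ t : Fin K → R, eval t (bind₁ g φ) = eval (ℓ (∑ k, t k • (c k).1)) φ := by
    intro t
    have h1 := aeval_bind₁ (R := R) (S := R) t g φ
    rw [aeval_eq_eval] at h1
    rw [h1]
    have h2 : (fun i => eval t (g i)) = ℓ (∑ k, t k • (c k).1) := by
      funext i
      simp only [g, map_sum, map_mul, eval_C, eval_X, map_smul, Finset.sum_apply, Pi.smul_apply,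
        smul_eq_mul]
      exact Finset.sum_congr rfl fun k _ => mul_comm _ _
    rw [h2, aeval_eq_eval]
  obtain ⟨t, ht⟩ := exists_isUnit_eval hR (bind₁ g φ) (fun m _ => by
    obtain ⟨k, hk⟩ := hc m
    refine ⟨Pi.single k 1, ?_⟩
    rw [heval]
    have : ∑ k', (Pi.single k (1 : R) : Fin K → R) k' • (c k').1 = (c k).1 := by
      rw [Finset.sum_eq_single k]
      · simp
      · intro k' _ hk'
        simp [Pi.single_eq_of_ne hk']
      · intro hk'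
        exact absurd (Finset.mem_univ k) hk'
    rw [this]
    exact hk)
  refine ⟨∑ k, t k • (c k).1, ?_, ?_⟩
  · exact Submodule.sum_mem _ fun k _ => Submodule.smul_mem _ _ (c k).2
  · rw [← heval]
    exact ht

end Family

section Hom
variable {R : Type u} [CommRing R] {a b : ℕ}
  {M₁ : Type v} {M₂ : Type w} [AddCommGroup M₁] [Module R M₁] [AddCommGroup M₂] [Module R M₂]

/-- one-sided version of `Fpoly` -/
noncomputable def Gpoly (E₁ : Matrix (Fin a) (Fin a) R) (E₂ : Matrix (Fin b) (Fin b) R) :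
    MvPolynomial (Var a b) R :=
  (Umat (E₁.map C) (E₂.map C) (Xgen R a b) (Ygen R a b)).det

theorem eval_Gpoly (E₁ : Matrix (Fin a) (Fin a) R) (E₂ : Matrix (Fin b) (Fin b) R)
    (s : Var a b → R) :
    eval s (Gpoly E₁ E₂) =
      (Umat E₁ E₂ (Matrix.of fun j i => s (Sum.inl (j, i)))
        (Matrix.of fun i j => s (Sum.inr (i, j)))).det := by
  have hE : ∀ {n : ℕ} (E : Matrix (Fin n) (Fin n) R), (E.map C).map (eval s) = E := by
    intro n E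
    ext i j
    simp
  have hX : (Xgen R a b).map (eval s) = Matrix.of fun j i => s (Sum.inl (j, i)) := by
    ext j i
    simp [Xgen]
  have hY : (Ygen R a b).map (eval s) = Matrix.of fun i j => s (Sum.inr (i, j)) := by
    ext i j
    simp [Ygen]
  rw [Gpoly, RingHom.map_det, RingHom.mapMatrix_apply, Umat_map, hE, hE, hX, hY]

/-- matrix of a map w.r.t. presentations. -/
noncomputable def matOf (π₁ : (Fin a → R) →ₗ[R] M₁) (i₂ : M₂ →ₗ[R] (Fin b → R)) :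
    (M₁ →ₗ[R] M₂) →ₗ[R] Matrix (Fin b) (Fin a) R where
  toFun F := LinearMap.toMatrix' (i₂ ∘ₗ F ∘ₗ π₁)
  map_add' F G := by rw [LinearMap.add_comp, LinearMap.comp_add, map_add]
  map_smul' r F := by rw [LinearMap.smul_comp, LinearMap.comp_smul, map_smul]; rfl

theorem matOf_apply (π₁ : (Fin a → R) →ₗ[R] M₁) (i₂ : M₂ →ₗ[R] (Fin b → R)) (F : M₁ →ₗ[R] M₂) :
    matOf π₁ i₂ F = LinearMap.toMatrix' (i₂ ∘ₗ F ∘ₗ π₁) := rfl

/-- the coordinates of a pair of maps -/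
noncomputable def coordMap (π₁ : (Fin a → R) →ₗ[R] M₁) (i₁ : M₁ →ₗ[R] (Fin a → R))
    (π₂ : (Fin b → R) →ₗ[R] M₂) (i₂ : M₂ →ₗ[R] (Fin b → R)) :
    ((M₁ →ₗ[R] M₂) × (M₂ →ₗ[R] M₁)) →ₗ[R] (Var a b → R) where
  toFun FG := Sum.elim (fun p => matOf π₁ i₂ FG.1 p.1 p.2) (fun p => matOf π₂ i₁ FG.2 p.1 p.2)
  map_add' x y := by
    funext p
    rcases p with p | p <;> simp
  map_smul' r x := by
    funext p
    rcases p with p | p <;> simp

theorem of_coordMap_inl (π₁ : (Fin a → R) →ₗ[R] M₁) (i₁ : M₁ →ₗ[R] (Fin a → R))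
    (π₂ : (Fin b → R) →ₗ[R] M₂) (i₂ : M₂ →ₗ[R] (Fin b → R)) (F : M₁ →ₗ[R] M₂) (G : M₂ →ₗ[R] M₁) :
    (Matrix.of fun j i => coordMap π₁ i₁ π₂ i₂ (F, G) (Sum.inl (j, i))) = matOf π₁ i₂ F := by
  ext j i
  rfl

theorem of_coordMap_inr (π₁ : (Fin a → R) →ₗ[R] M₁) (i₁ : M₁ →ₗ[R] (Fin a → R))
    (π₂ : (Fin b → R) →ₗ[R] M₂) (i₂ : M₂ →ₗ[R] (Fin b → R)) (F : M₁ →ₗ[R] M₂) (G : M₂ →ₗ[R] M₁) :
    (Matrix.of fun i j => coordMap π₁ i₁ π₂ i₂ (F, G) (Sum.inr (i, j))) = matOf π₂ i₁ G := by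
  ext j i
  rfl

theorem bijective_of_isUnit_det (i₁ : M₁ →ₗ[R] (Fin a → R)) (π₁ : (Fin a → R) →ₗ[R] M₁)
    (h₁ : π₁ ∘ₗ i₁ = LinearMap.id) (i₂ : M₂ →ₗ[R] (Fin b → R)) (π₂ : (Fin b → R) →ₗ[R] M₂)
    (h₂ : π₂ ∘ₗ i₂ = LinearMap.id) (F : M₁ →ₗ[R] M₂) (G : M₂ →ₗ[R] M₁)
    (hU : IsUnit (Umat (LinearMap.toMatrix' (i₁ ∘ₗ π₁)) (LinearMap.toMatrix' (i₂ ∘ₗ π₂))
      (matOf π₁ i₂ F) (matOf π₂ i₁ G)).det) :
    Function.Bijective (G ∘ₗ F) := by
  have h := bijective_comp_of_isUnit i₁ π₁ h₁ i₂ π₂ _ _ hU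
  have hπi₁ : ∀ m, π₁ (i₁ m) = m := fun m => LinearMap.congr_fun h₁ m
  have hπi₂ : ∀ m, π₂ (i₂ m) = m := fun m => LinearMap.congr_fun h₂ m
  have heq : (π₁ ∘ₗ Matrix.toLin' (matOf π₂ i₁ G) ∘ₗ i₂) ∘ₗ
      (π₂ ∘ₗ Matrix.toLin' (matOf π₁ i₂ F) ∘ₗ i₁) = G ∘ₗ F := by
    rw [matOf_apply, matOf_apply, Matrix.toLin'_toMatrix', Matrix.toLin'_toMatrix']
    ext x
    simp only [LinearMap.comp_apply, hπi₁, hπi₂]
  rw [heq] at h
  exact h

theorem det_Umat_not_mem (m : Ideal R) (hm : m ≠ ⊤)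
    (i₁ : M₁ →ₗ[R] (Fin a → R)) (π₁ : (Fin a → R) →ₗ[R] M₁)
    (h₁ : π₁ ∘ₗ i₁ = LinearMap.id) (i₂ : M₂ →ₗ[R] (Fin b → R)) (π₂ : (Fin b → R) →ₗ[R] M₂)
    (h₂ : π₂ ∘ₗ i₂ = LinearMap.id) (F : M₁ →ₗ[R] M₂) (G : M₂ →ₗ[R] M₁)
    (hGF : (G ∘ₗ F).baseChange (R ⧸ m) = LinearMap.id) :
    (Umat (LinearMap.toMatrix' (i₁ ∘ₗ π₁)) (LinearMap.toMatrix' (i₂ ∘ₗ π₂))
      (matOf π₁ i₂ F) (matOf π₂ i₁ G)).det ∉ m := by
  classical
  let q : R →+* R ⧸ m := Ideal.Quotient.mk m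
  let Ba := Algebra.TensorProduct.basis (R ⧸ m) (Pi.basisFun R (Fin a))
  let Bb := Algebra.TensorProduct.basis (R ⧸ m) (Pi.basisFun R (Fin b))
  have hPI₁ : π₁.baseChange (R ⧸ m) ∘ₗ i₁.baseChange (R ⧸ m) = LinearMap.id := by
    rw [← LinearMap.baseChange_comp, h₁, LinearMap.baseChange_id]
  have hPI₂ : π₂.baseChange (R ⧸ m) ∘ₗ i₂.baseChange (R ⧸ m) = LinearMap.id := by
    rw [← LinearMap.baseChange_comp, h₂, LinearMap.baseChange_id]
  have hE₁ : (LinearMap.toMatrix' (i₁ ∘ₗ π₁)).map q =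
      LinearMap.toMatrix Ba Ba (i₁.baseChange (R ⧸ m) ∘ₗ π₁.baseChange (R ⧸ m)) := by
    rw [← LinearMap.baseChange_comp, LinearMap.toMatrix_baseChange, LinearMap.toMatrix_eq_toMatrix']
    rfl
  have hE₂ : (LinearMap.toMatrix' (i₂ ∘ₗ π₂)).map q =
      LinearMap.toMatrix Bb Bb (i₂.baseChange (R ⧸ m) ∘ₗ π₂.baseChange (R ⧸ m)) := by
    rw [← LinearMap.baseChange_comp, LinearMap.toMatrix_baseChange, LinearMap.toMatrix_eq_toMatrix']
    rfl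
  have hF : (matOf π₁ i₂ F).map q = LinearMap.toMatrix Ba Bb
      (i₂.baseChange (R ⧸ m) ∘ₗ F.baseChange (R ⧸ m) ∘ₗ π₁.baseChange (R ⧸ m)) := by
    rw [← LinearMap.baseChange_comp, ← LinearMap.baseChange_comp, LinearMap.toMatrix_baseChange]
    ext j i
    simp only [Matrix.map_apply, matOf_apply, LinearMap.toMatrix'_apply, LinearMap.toMatrix_apply,
      Pi.basisFun_apply, Pi.basisFun_repr]
    rfl
  have hG : (matOf π₂ i₁ G).map q = LinearMap.toMatrix Bb Ba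
      (i₁.baseChange (R ⧸ m) ∘ₗ G.baseChange (R ⧸ m) ∘ₗ π₂.baseChange (R ⧸ m)) := by
    rw [← LinearMap.baseChange_comp, ← LinearMap.baseChange_comp, LinearMap.toMatrix_baseChange]
    ext j i
    simp only [Matrix.map_apply, matOf_apply, LinearMap.toMatrix'_apply, LinearMap.toMatrix_apply,
      Pi.basisFun_apply, Pi.basisFun_repr]
    rfl
  have hU : (Umat (LinearMap.toMatrix' (i₁ ∘ₗ π₁)) (LinearMap.toMatrix' (i₂ ∘ₗ π₂))
      (matOf π₁ i₂ F) (matOf π₂ i₁ G)).map q = 1 := by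
    rw [Umat_map, hE₁, hE₂, hF, hG]
    exact Umat_eq_one Ba Bb _ _ hPI₁ _ _ hPI₂ _ _ (by rw [← LinearMap.baseChange_comp, hGF])
  rw [← Ideal.Quotient.eq_zero_iff_mem]
  change q _ ≠ 0
  rw [RingHom.map_det, RingHom.mapMatrix_apply, hU, Matrix.det_one]
  haveI : Nontrivial (R ⧸ m) := Ideal.Quotient.nontrivial_iff.mpr hm
  exact one_ne_zero

variable (M₁ M₂) in
/-- one-sided version: finds `F ∈ H₁`, `G ∈ H₂` with `G ∘ F` bijective. -/
theorem exists_bijective_comp_of_local (hR : LGRing.IsLGRing R)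
    [Module.Finite R M₁] [Module.Projective R M₁] [Module.Finite R M₂] [Module.Projective R M₂]
    (H₁ : Submodule R (M₁ →ₗ[R] M₂)) (H₂ : Submodule R (M₂ →ₗ[R] M₁))
    (h : ∀ (m : Ideal R) [m.IsMaximal], ∃ F ∈ H₁, ∃ G ∈ H₂,
      (G ∘ₗ F).baseChange (R ⧸ m) = LinearMap.id) :
    ∃ F ∈ H₁, ∃ G ∈ H₂, Function.Bijective (G ∘ₗ F) := by
  obtain ⟨a, π₁, hπ₁⟩ := Module.Finite.exists_fin' R M₁
  obtain ⟨i₁, h₁⟩ := Module.projective_lifting_property π₁ LinearMap.id hπ₁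
  obtain ⟨b, π₂, hπ₂⟩ := Module.Finite.exists_fin' R M₂
  obtain ⟨i₂, h₂⟩ := Module.projective_lifting_property π₂ LinearMap.id hπ₂
  obtain ⟨FG, hFG, hU⟩ := exists_isUnit_eval_of_submodule hR (coordMap π₁ i₁ π₂ i₂) (H₁.prod H₂)
    (Gpoly (LinearMap.toMatrix' (i₁ ∘ₗ π₁)) (LinearMap.toMatrix' (i₂ ∘ₗ π₂))) (fun m hm => by
      obtain ⟨F, hF, G, hG, hGF⟩ := h m
      refine ⟨(F, G), ⟨hF, hG⟩, ?_⟩
      rw [eval_Gpoly, of_coordMap_inl, of_coordMap_inr]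
      exact det_Umat_not_mem m hm.ne_top i₁ π₁ h₁ i₂ π₂ h₂ F G hGF)
  obtain ⟨F, G⟩ := FG
  rw [eval_Gpoly, of_coordMap_inl, of_coordMap_inr] at hU
  exact ⟨F, hFG.1, G, hFG.2, bijective_of_isUnit_det i₁ π₁ h₁ i₂ π₂ h₂ F G hU⟩

variable (M₁ M₂) in
/-- two-sided version: finds a bijective `F ∈ H₁`. -/
theorem exists_bijective_of_local (hR : LGRing.IsLGRing R)
    [Module.Finite R M₁] [Module.Projective R M₁] [Module.Finite R M₂] [Module.Projective R M₂]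
    (H₁ : Submodule R (M₁ →ₗ[R] M₂)) (H₂ : Submodule R (M₂ →ₗ[R] M₁))
    (h : ∀ (m : Ideal R) [m.IsMaximal], ∃ F ∈ H₁, ∃ G ∈ H₂,
      (G ∘ₗ F).baseChange (R ⧸ m) = LinearMap.id ∧ (F ∘ₗ G).baseChange (R ⧸ m) = LinearMap.id) :
    ∃ F ∈ H₁, ∃ G ∈ H₂, Function.Bijective (G ∘ₗ F) ∧ Function.Bijective (F ∘ₗ G) := by
  obtain ⟨a, π₁, hπ₁⟩ := Module.Finite.exists_fin' R M₁
  obtain ⟨i₁, h₁⟩ := Module.projective_lifting_property π₁ LinearMap.id hπ₁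
  obtain ⟨b, π₂, hπ₂⟩ := Module.Finite.exists_fin' R M₂
  obtain ⟨i₂, h₂⟩ := Module.projective_lifting_property π₂ LinearMap.id hπ₂
  obtain ⟨FG, hFG, hU⟩ := exists_isUnit_eval_of_submodule hR (coordMap π₁ i₁ π₂ i₂) (H₁.prod H₂)
    (Fpoly (LinearMap.toMatrix' (i₁ ∘ₗ π₁)) (LinearMap.toMatrix' (i₂ ∘ₗ π₂))) (fun m hm => by
      obtain ⟨F, hF, G, hG, hGF, hFG⟩ := h m
      refine ⟨(F, G), ⟨hF, hG⟩, ?_⟩
      rw [eval_Fpoly, of_coordMap_inl, of_coordMap_inr]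
      intro hmem
      rcases hm.isPrime.mem_or_mem hmem with h' | h'
      · exact det_Umat_not_mem m hm.ne_top i₁ π₁ h₁ i₂ π₂ h₂ F G hGF h'
      · exact det_Umat_not_mem m hm.ne_top i₂ π₂ h₂ i₁ π₁ h₁ G F hFG h')
  obtain ⟨F, G⟩ := FG
  rw [eval_Fpoly, of_coordMap_inl, of_coordMap_inr, IsUnit.mul_iff] at hU
  exact ⟨F, hFG.1, G, hFG.2, bijective_of_isUnit_det i₁ π₁ h₁ i₂ π₂ h₂ F G hU.1,
    bijective_of_isUnit_det i₂ π₂ h₂ i₁ π₁ h₁ G F hU.2⟩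

end Hom

end Groth.Agent.H7.LG
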