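import Mathlib
import Groth.Agent.Lib.Helper7.LG.AzSep
import Groth.Agent.Lib.Helper7.LG.Sub
import Groth.Agent.Lib.Helper7.CSA5
import Groth.Agent.Lib.Helper7.Azu10

set_option autoImplicit false
universe u v w

namespace Groth.Agent.H7.LG

open scoped TensorProduct
open MulOpposite

section Conj
variable {R : Type u} [CommRing R] {C : Type v} [Ring C] [Algebra R C]
  {D : Type w} [Ring D] [Algebra R D] (f g : C →ₐ[R] D)

/-- intertwiners -/
def inter : Submodule R D where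
  carrier := {u | ∀ c, f c * u = u * g c}
  add_mem' := by
    intro u v hu hv c
    rw [mul_add, add_mul, hu c, hv c]
  zero_mem' := by
    intro c
    simp
  smul_mem' := by
    intro r u hu c
    rw [mul_smul_comm, smul_mul_assoc, hu c]

theorem mem_inter (u : D) : u ∈ inter f g ↔ ∀ c, f c * u = u * g c := Iff.rfl

/-- sandwich map -/
noncomputable def sw : C ⊗[R] Cᵐᵒᵖ →ₐ[R] Module.End R D :=
  (AlgHom.mulLeftRight R D).comp (Algebra.TensorProduct.map f (AlgHom.op g))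

theorem sw_tmul (a : C) (b : Cᵐᵒᵖ) (d : D) : sw f g (a ⊗ₜ b) d = f a * d * g b.unop := by
  rw [sw, AlgHom.comp_apply, Algebra.TensorProduct.map_tmul, AlgHom.mulLeftRight_apply]
  rfl

theorem sw_mem_inter (ε : C ⊗[R] Cᵐᵒᵖ)
    (hε : ∀ c : C, (c ⊗ₜ[R] (1 : Cᵐᵒᵖ)) * ε = ((1 : C) ⊗ₜ[R] op c) * ε) (d : D) :
    sw f g ε d ∈ inter f g := by
  intro c
  have h1 : f c * sw f g ε d = sw f g ((c ⊗ₜ[R] (1 : Cᵐᵒᵖ)) * ε) d := by
    rw [map_mul, Module.End.mul_apply, sw_tmul, unop_one, map_one, mul_one]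
  have h2 : sw f g ε d * g c = sw f g (((1 : C) ⊗ₜ[R] op c) * ε) d := by
    rw [map_mul, Module.End.mul_apply, sw_tmul, unop_op, map_one, one_mul]
  rw [h1, h2, hε]

end Conj

section Local
variable {R : Type u} [CommRing R] {C : Type v} [Ring C] [Algebra R C] [IsAzumaya R C]
  {D : Type w} [Ring D] [Algebra R D] [IsAzumaya R D] (f g : C →ₐ[R] D)

theorem tmul_sw (S : Type*) [CommRing S] [Algebra R S] (z : C ⊗[R] Cᵐᵒᵖ) (d : D)
    (hd : ∀ c : C, ((1 : S) ⊗ₜ[R] f c) * ((1 : S) ⊗ₜ[R] d) = ((1 : S) ⊗ₜ[R] d) * ((1 : S) ⊗ₜ[R] g c)) :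
    (1 : S) ⊗ₜ[R] (sw f g z d) =
      ((1 : S) ⊗ₜ[R] d) * ((1 : S) ⊗ₜ[R] g (AlgHom.mulLeftRight R C z 1)) := by
  induction z using TensorProduct.induction_on with
  | zero => simp
  | tmul a b =>
    rw [sw_tmul, AlgHom.mulLeftRight_apply, mul_one, map_mul]
    have e1 : (1 : S) ⊗ₜ[R] (f a * d * g b.unop) =
        ((1 : S) ⊗ₜ[R] f a) * ((1 : S) ⊗ₜ[R] d) * ((1 : S) ⊗ₜ[R] g b.unop) := by
      rw [Algebra.TensorProduct.tmul_mul_tmul, Algebra.TensorProduct.tmul_mul_tmul, mul_one, mul_one]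
    have e2 : (1 : S) ⊗ₜ[R] (g a * g b.unop) =
        ((1 : S) ⊗ₜ[R] g a) * ((1 : S) ⊗ₜ[R] g b.unop) := by
      rw [Algebra.TensorProduct.tmul_mul_tmul, mul_one]
    rw [e1, e2, hd a, mul_assoc]
  | add z₁ z₂ h₁ h₂ =>
    rw [map_add, LinearMap.add_apply, TensorProduct.tmul_add, h₁, h₂, map_add,
      LinearMap.add_apply, map_add, TensorProduct.tmul_add, mul_add]

open Groth.Agent.H7.CSA in
/-- local existence of mutually inverse intertwiners. -/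
theorem exists_local_inter (m : Ideal R) [m.IsMaximal] :
    ∃ u ∈ inter f g, ∃ v ∈ inter g f,
      ((1 : R ⧸ m) ⊗ₜ[R] v) * ((1 : R ⧸ m) ⊗ₜ[R] u) = (1 : (R ⧸ m) ⊗[R] D) ∧
      ((1 : R ⧸ m) ⊗ₜ[R] u) * ((1 : R ⧸ m) ⊗ₜ[R] v) = (1 : (R ⧸ m) ⊗[R] D) := by
  classical
  letI := Ideal.Quotient.field m
  haveI : IsAzumaya (R ⧸ m) ((R ⧸ m) ⊗[R] C) := Azu.isAzumaya_baseChange R (R ⧸ m) C
  haveI : IsAzumaya (R ⧸ m) ((R ⧸ m) ⊗[R] D) := Azu.isAzumaya_baseChange R (R ⧸ m) D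
  haveI : IsSimpleRing ((R ⧸ m) ⊗[R] C) := Azu.isSimpleRing_of_isAzumaya_field (R ⧸ m) _
  haveI : IsSimpleRing ((R ⧸ m) ⊗[R] D) := Azu.isSimpleRing_of_isAzumaya_field (R ⧸ m) _
  haveI : Algebra.IsCentral (R ⧸ m) ((R ⧸ m) ⊗[R] D) := Azu.isCentral_of_isAzumaya_field (R ⧸ m) _
  haveI : FiniteDimensional (R ⧸ m) ((R ⧸ m) ⊗[R] D) := inferInstance
  let f' : (R ⧸ m) ⊗[R] C →ₐ[R ⧸ m] (R ⧸ m) ⊗[R] D :=
    Algebra.TensorProduct.map (AlgHom.id (R ⧸ m) (R ⧸ m)) f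
  let g' : (R ⧸ m) ⊗[R] C →ₐ[R ⧸ m] (R ⧸ m) ⊗[R] D :=
    Algebra.TensorProduct.map (AlgHom.id (R ⧸ m) (R ⧸ m)) g
  obtain ⟨x, hx⟩ := skolem_noether (R ⧸ m) ((R ⧸ m) ⊗[R] D) ((R ⧸ m) ⊗[R] C) f' g'
  have hx1 : ∀ c : C, ((1 : R ⧸ m) ⊗ₜ[R] f c) * (x : (R ⧸ m) ⊗[R] D) =
      (x : (R ⧸ m) ⊗[R] D) * ((1 : R ⧸ m) ⊗ₜ[R] g c) := by
    intro c
    have := hx ((1 : R ⧸ m) ⊗ₜ[R] c)
    simp only [f', g', Algebra.TensorProduct.map_tmul, AlgHom.id_apply] at this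
    rw [this, mul_assoc, Units.inv_mul, mul_one]
  have hx2 : ∀ c : C, ((1 : R ⧸ m) ⊗ₜ[R] g c) * ((x⁻¹ : ((R ⧸ m) ⊗[R] D)ˣ) : (R ⧸ m) ⊗[R] D) =
      ((x⁻¹ : ((R ⧸ m) ⊗[R] D)ˣ) : (R ⧸ m) ⊗[R] D) * ((1 : R ⧸ m) ⊗ₜ[R] f c) := by
    intro c
    have := hx ((1 : R ⧸ m) ⊗ₜ[R] c)
    simp only [f', g', Algebra.TensorProduct.map_tmul, AlgHom.id_apply] at this
    rw [this, ← mul_assoc, ← mul_assoc, Units.inv_mul, one_mul]
  have hsurj : ∀ y : (R ⧸ m) ⊗[R] D, ∃ d : D, (1 : R ⧸ m) ⊗ₜ[R] d = y := by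
    intro y
    induction y using TensorProduct.induction_on with
    | zero => exact ⟨0, TensorProduct.tmul_zero _ _⟩
    | tmul s d =>
      obtain ⟨r, rfl⟩ := Ideal.Quotient.mk_surjective s
      refine ⟨r • d, ?_⟩
      rw [TensorProduct.tmul_smul, TensorProduct.smul_tmul', Algebra.smul_def, mul_one]
      rfl
    | add y₁ y₂ h₁ h₂ =>
      obtain ⟨d₁, hd₁⟩ := h₁
      obtain ⟨d₂, hd₂⟩ := h₂
      exact ⟨d₁ + d₂, by rw [TensorProduct.tmul_add, hd₁, hd₂]⟩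
  obtain ⟨d, hd⟩ := hsurj (x : (R ⧸ m) ⊗[R] D)
  obtain ⟨d', hd'⟩ := hsurj ((x⁻¹ : ((R ⧸ m) ⊗[R] D)ˣ) : (R ⧸ m) ⊗[R] D)
  obtain ⟨ε, hε1, hε2⟩ := exists_sepElement R C
  have hu : (1 : R ⧸ m) ⊗ₜ[R] (sw f g ε d) = (x : (R ⧸ m) ⊗[R] D) := by
    rw [tmul_sw f g (R ⧸ m) ε d (by intro c; rw [hd]; exact hx1 c), hε1, map_one, hd]
    exact mul_one _
  have hv : (1 : R ⧸ m) ⊗ₜ[R] (sw g f ε d') =
      ((x⁻¹ : ((R ⧸ m) ⊗[R] D)ˣ) : (R ⧸ m) ⊗[R] D) := by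
    rw [tmul_sw g f (R ⧸ m) ε d' (by intro c; rw [hd']; exact hx2 c), hε1, map_one, hd']
    exact mul_one _
  refine ⟨sw f g ε d, sw_mem_inter f g ε hε2 d, sw g f ε d', sw_mem_inter g f ε hε2 d', ?_, ?_⟩
  · rw [hu, hv, Units.inv_mul]
  · rw [hu, hv, Units.mul_inv]

end Local

section Global
variable {R : Type u} [CommRing R] {C : Type v} [Ring C] [Algebra R C] [IsAzumaya R C]
  {D : Type w} [Ring D] [Algebra R D] [IsAzumaya R D] (f g : C →ₐ[R] D)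

/-- Skolem–Noether over LG rings: two embeddings of an Azumaya algebra into an Azumaya algebra are
conjugate. -/
theorem exists_unit_inter (hR : LGRing.IsLGRing R) : ∃ u : Dˣ, ∀ c, f c * (u : D) = (u : D) * g c := by
  obtain ⟨F, hF, G, hG, hb1, hb2⟩ := exists_bijective_of_local D D hR
    ((inter f g).map (LinearMap.mul R D)) ((inter g f).map (LinearMap.mul R D)) (fun m hm => by
      obtain ⟨u, hu, v, hv, h1, h2⟩ := exists_local_inter f g m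
      refine ⟨LinearMap.mul R D u, Submodule.mem_map_of_mem hu, LinearMap.mul R D v,
        Submodule.mem_map_of_mem hv, ?_, ?_⟩
      · ext y
        simp only [TensorProduct.AlgebraTensorModule.curry_apply, TensorProduct.curry_apply,
          LinearMap.coe_restrictScalars, LinearMap.baseChange_tmul, LinearMap.coe_comp,
          Function.comp_apply, LinearMap.mul_apply', LinearMap.id_coe, id_eq]
        have : (1 : R ⧸ m) ⊗ₜ[R] (v * (u * y)) =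
            (((1 : R ⧸ m) ⊗ₜ[R] v) * ((1 : R ⧸ m) ⊗ₜ[R] u)) * ((1 : R ⧸ m) ⊗ₜ[R] y) := by
          rw [Algebra.TensorProduct.tmul_mul_tmul, Algebra.TensorProduct.tmul_mul_tmul, mul_one,
            mul_one, mul_assoc]
        rw [this, h1, one_mul]
      · ext y
        simp only [TensorProduct.AlgebraTensorModule.curry_apply, TensorProduct.curry_apply,
          LinearMap.coe_restrictScalars, LinearMap.baseChange_tmul, LinearMap.coe_comp,
          Function.comp_apply, LinearMap.mul_apply', LinearMap.id_coe, id_eq]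
        have : (1 : R ⧸ m) ⊗ₜ[R] (u * (v * y)) =
            (((1 : R ⧸ m) ⊗ₜ[R] u) * ((1 : R ⧸ m) ⊗ₜ[R] v)) * ((1 : R ⧸ m) ⊗ₜ[R] y) := by
          rw [Algebra.TensorProduct.tmul_mul_tmul, Algebra.TensorProduct.tmul_mul_tmul, mul_one,
            mul_one, mul_assoc]
        rw [this, h2, one_mul])
  obtain ⟨u, hu, rfl⟩ := hF
  obtain ⟨v, hv, rfl⟩ := hG
  have hinj : Function.Injective (LinearMap.mul R D u) := by
    have := hb1.1
    rw [LinearMap.coe_comp] at this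
    exact Function.Injective.of_comp this
  have hsurj : Function.Surjective (LinearMap.mul R D u) := by
    have := hb2.2
    rw [LinearMap.coe_comp] at this
    exact Function.Surjective.of_comp this
  obtain ⟨w, hw⟩ := hsurj 1
  rw [LinearMap.mul_apply'] at hw
  have hwu : w * u = 1 := by
    apply hinj
    rw [LinearMap.mul_apply', LinearMap.mul_apply', ← mul_assoc, hw, one_mul, mul_one]
  exact ⟨⟨u, w, hw, hwu⟩, hu⟩

end Global

end Groth.Agent.H7.LG
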