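import Mathlib
import Groth.Agent.Lib.Helper7.LG.AzConj

set_option autoImplicit false
universe u v w

namespace Groth.Agent.H7.LG

open scoped TensorProduct
open MulOpposite

section Zar
variable {R : Type u} [CommRing R] {A : Type v} [Ring A] [Algebra R A]

theorem exists_clear_denominators (p : Ideal R) [p.IsPrime] (y : p.ResidueField ⊗[R] A) :
    ∃ s : R, s ∉ p ∧ ∃ d : A, (algebraMap R p.ResidueField s) • y = (1 : p.ResidueField) ⊗ₜ[R] d := by
  induction y using TensorProduct.induction_on with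
  | zero => exact ⟨1, fun h => (Ideal.IsPrime.ne_top ‹_›) ((Ideal.eq_top_iff_one p).mpr h), 0, by simp⟩
  | tmul c a =>
    obtain ⟨⟨x, y⟩, hxy⟩ := IsLocalization.surj (nonZeroDivisors (R ⧸ p)) c
    obtain ⟨r, rfl⟩ := Ideal.Quotient.mk_surjective x
    obtain ⟨s, hs⟩ := Ideal.Quotient.mk_surjective y.1
    have hsp : s ∉ p := by
      intro hmem
      have h0 : (y : R ⧸ p) = 0 := by rw [← hs]; exact Ideal.Quotient.eq_zero_iff_mem.mpr hmem
      exact (nonZeroDivisors.ne_zero y.2) h0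
    refine ⟨s, hsp, r • a, ?_⟩
    have h1 : algebraMap R p.ResidueField s * c = algebraMap R p.ResidueField r := by
      have e1 : algebraMap R p.ResidueField s = algebraMap (R ⧸ p) p.ResidueField (y : R ⧸ p) := by
        rw [← hs]; rfl
      have e2 : algebraMap R p.ResidueField r =
          algebraMap (R ⧸ p) p.ResidueField (Ideal.Quotient.mk p r) := rfl
      rw [e1, e2, mul_comm]
      exact hxy
    rw [TensorProduct.smul_tmul', smul_eq_mul, h1, Algebra.algebraMap_eq_smul_one,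
      TensorProduct.smul_tmul]
  | add y₁ y₂ h₁ h₂ =>
    obtain ⟨s₁, hs₁, d₁, hd₁⟩ := h₁
    obtain ⟨s₂, hs₂, d₂, hd₂⟩ := h₂
    refine ⟨s₁ * s₂, fun h => (Ideal.IsPrime.mem_or_mem ‹_› h).elim hs₁ hs₂, s₂ • d₁ + s₁ • d₂, ?_⟩
    have e1 : (algebraMap R p.ResidueField s₁ * algebraMap R p.ResidueField s₂) • y₁ =
        algebraMap R p.ResidueField s₂ • ((1 : p.ResidueField) ⊗ₜ[R] d₁) := by
      rw [mul_comm, mul_smul, hd₁]
    have e2 : (algebraMap R p.ResidueField s₁ * algebraMap R p.ResidueField s₂) • y₂ =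
        algebraMap R p.ResidueField s₁ • ((1 : p.ResidueField) ⊗ₜ[R] d₂) := by
      rw [mul_smul, hd₂]
    have e3 : ∀ (s : R) (d : A), algebraMap R p.ResidueField s • ((1 : p.ResidueField) ⊗ₜ[R] d) =
        (1 : p.ResidueField) ⊗ₜ[R] (s • d) := by
      intro s d
      rw [TensorProduct.smul_tmul', smul_eq_mul, mul_one, Algebra.algebraMap_eq_smul_one,
        TensorProduct.smul_tmul]
    rw [smul_add, map_mul, e1, e2, e3, e3, TensorProduct.tmul_add]

end Zar

section Prime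
variable {R : Type u} [CommRing R] {C : Type v} [Ring C] [Algebra R C] [IsAzumaya R C]
  {D : Type w} [Ring D] [Algebra R D] [IsAzumaya R D] (f g : C →ₐ[R] D)

open Groth.Agent.H7.CSA in
/-- existence of intertwiners which are mutually inverse up to a nonzero scalar at a prime. -/
theorem exists_prime_inter (p : Ideal R) [p.IsPrime] :
    ∃ u ∈ inter f g, ∃ v ∈ inter g f, ∃ c : p.ResidueField, c ≠ 0 ∧
      ((1 : p.ResidueField) ⊗ₜ[R] v) * ((1 : p.ResidueField) ⊗ₜ[R] u) =
        c • (1 : p.ResidueField ⊗[R] D) ∧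
      ((1 : p.ResidueField) ⊗ₜ[R] u) * ((1 : p.ResidueField) ⊗ₜ[R] v) =
        c • (1 : p.ResidueField ⊗[R] D) := by
  classical
  haveI : IsAzumaya p.ResidueField (p.ResidueField ⊗[R] C) :=
    Azu.isAzumaya_baseChange R p.ResidueField C
  haveI : IsAzumaya p.ResidueField (p.ResidueField ⊗[R] D) :=
    Azu.isAzumaya_baseChange R p.ResidueField D
  haveI : IsSimpleRing (p.ResidueField ⊗[R] C) := Azu.isSimpleRing_of_isAzumaya_field p.ResidueField _
  haveI : IsSimpleRing (p.ResidueField ⊗[R] D) := Azu.isSimpleRing_of_isAzumaya_field p.ResidueField _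
  haveI : Algebra.IsCentral p.ResidueField (p.ResidueField ⊗[R] D) :=
    Azu.isCentral_of_isAzumaya_field p.ResidueField _
  haveI : FiniteDimensional p.ResidueField (p.ResidueField ⊗[R] D) := inferInstance
  let f' : p.ResidueField ⊗[R] C →ₐ[p.ResidueField] p.ResidueField ⊗[R] D :=
    Algebra.TensorProduct.map (AlgHom.id p.ResidueField p.ResidueField) f
  let g' : p.ResidueField ⊗[R] C →ₐ[p.ResidueField] p.ResidueField ⊗[R] D :=
    Algebra.TensorProduct.map (AlgHom.id p.ResidueField p.ResidueField) g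
  obtain ⟨x, hx⟩ := skolem_noether p.ResidueField (p.ResidueField ⊗[R] D)
    (p.ResidueField ⊗[R] C) f' g'
  have hx1 : ∀ c : C, ((1 : p.ResidueField) ⊗ₜ[R] f c) * (x : p.ResidueField ⊗[R] D) =
      (x : p.ResidueField ⊗[R] D) * ((1 : p.ResidueField) ⊗ₜ[R] g c) := by
    intro c
    have := hx ((1 : p.ResidueField) ⊗ₜ[R] c)
    simp only [f', g', Algebra.TensorProduct.map_tmul, AlgHom.id_apply] at this
    rw [this, mul_assoc, Units.inv_mul, mul_one]
  have hx2 : ∀ c : C, ((1 : p.ResidueField) ⊗ₜ[R] g c) *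
      ((x⁻¹ : (p.ResidueField ⊗[R] D)ˣ) : p.ResidueField ⊗[R] D) =
      ((x⁻¹ : (p.ResidueField ⊗[R] D)ˣ) : p.ResidueField ⊗[R] D) *
        ((1 : p.ResidueField) ⊗ₜ[R] f c) := by
    intro c
    have := hx ((1 : p.ResidueField) ⊗ₜ[R] c)
    simp only [f', g', Algebra.TensorProduct.map_tmul, AlgHom.id_apply] at this
    rw [this, ← mul_assoc, ← mul_assoc, Units.inv_mul, one_mul]
  obtain ⟨s₁, hs₁, d, hd⟩ := exists_clear_denominators p (x : p.ResidueField ⊗[R] D)
  obtain ⟨s₂, hs₂, d', hd'⟩ := exists_clear_denominators p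
    ((x⁻¹ : (p.ResidueField ⊗[R] D)ˣ) : p.ResidueField ⊗[R] D)
  obtain ⟨ε, hε1, hε2⟩ := exists_sepElement R C
  have hu : (1 : p.ResidueField) ⊗ₜ[R] (sw f g ε d) =
      algebraMap R p.ResidueField s₁ • (x : p.ResidueField ⊗[R] D) := by
    rw [tmul_sw f g p.ResidueField ε d (by
      intro c
      rw [← hd, mul_smul_comm, smul_mul_assoc, hx1 c]), hε1, map_one, hd]
    exact mul_one _
  have hv : (1 : p.ResidueField) ⊗ₜ[R] (sw g f ε d') =
      algebraMap R p.ResidueField s₂ •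
        ((x⁻¹ : (p.ResidueField ⊗[R] D)ˣ) : p.ResidueField ⊗[R] D) := by
    rw [tmul_sw g f p.ResidueField ε d' (by
      intro c
      rw [← hd', mul_smul_comm, smul_mul_assoc, hx2 c]), hε1, map_one, hd']
    exact mul_one _
  refine ⟨sw f g ε d, sw_mem_inter f g ε hε2 d, sw g f ε d', sw_mem_inter g f ε hε2 d',
    algebraMap R p.ResidueField s₂ * algebraMap R p.ResidueField s₁, ?_, ?_, ?_⟩
  · apply mul_ne_zero
    · rwa [Ne, Ideal.algebraMap_residueField_eq_zero]
    · rwa [Ne, Ideal.algebraMap_residueField_eq_zero]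
  · rw [hu, hv, smul_mul_smul_comm, Units.inv_mul]
  · rw [hu, hv, smul_mul_smul_comm, Units.mul_inv, mul_comm]

end Prime

section Away
variable {R : Type u} [CommRing R] {A : Type v} [Ring A] [Algebra R A] [IsAzumaya R A]

/-- S8142: automorphisms of Azumaya algebras are Zariski-locally inner. -/
theorem exists_away_inner (φ : A ≃ₐ[R] A) (p : Ideal R) [p.IsPrime] :
    ∃ (f : R) (_ : f ∉ p) (u : (Localization.Away f ⊗[R] A)ˣ),
      ∀ a : Localization.Away f ⊗[R] A,
        Algebra.TensorProduct.map (AlgHom.id (Localization.Away f) (Localization.Away f))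
          (φ : A →ₐ[R] A) a =
          (u : Localization.Away f ⊗[R] A) * a * (u⁻¹ : (Localization.Away f ⊗[R] A)ˣ) := by
  obtain ⟨u, hu, v, hv, c, hc, h1, h2⟩ := exists_prime_inter (φ : A →ₐ[R] A) (AlgHom.id R A) p
  have hu' : ∀ a : A, φ a * u = u * a := hu
  have hv' : ∀ a : A, a * v = v * φ a := hv
  obtain ⟨f₁, hf₁⟩ := center_azumaya R A (v * u) (fun a => by
    rw [mul_assoc, ← hu', ← mul_assoc, ← hv', mul_assoc])
  obtain ⟨f₂, hf₂⟩ := center_azumaya R A (u * v) (fun a => by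
    obtain ⟨b, rfl⟩ := φ.surjective a
    rw [mul_assoc, ← hv', ← mul_assoc, ← hu', mul_assoc])
  haveI : IsAzumaya p.ResidueField (p.ResidueField ⊗[R] A) :=
    Azu.isAzumaya_baseChange R p.ResidueField A
  haveI : IsSimpleRing (p.ResidueField ⊗[R] A) := Azu.isSimpleRing_of_isAzumaya_field p.ResidueField _
  have hinj : Function.Injective (algebraMap p.ResidueField (p.ResidueField ⊗[R] A)) :=
    (algebraMap p.ResidueField (p.ResidueField ⊗[R] A)).injective
  have key : ∀ (w : A) (r : R), w = algebraMap R A r →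
      ((1 : p.ResidueField) ⊗ₜ[R] w : p.ResidueField ⊗[R] A) = c • 1 → r ∉ p := by
    intro w r hw hwc
    rw [hw, Algebra.algebraMap_eq_smul_one, TensorProduct.tmul_smul, ← Algebra.TensorProduct.one_def,
      ← algebraMap_smul p.ResidueField r (1 : p.ResidueField ⊗[R] A),
      ← Algebra.algebraMap_eq_smul_one, ← Algebra.algebraMap_eq_smul_one] at hwc
    have := hinj hwc
    rw [← Ideal.algebraMap_residueField_eq_zero (I := p), this]
    exact hc
  have hf₁p : f₁ ∉ p := key (v * u) f₁ hf₁ (by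
    rw [← h1, Algebra.TensorProduct.tmul_mul_tmul, mul_one])
  have hf₂p : f₂ ∉ p := key (u * v) f₂ hf₂ (by
    rw [← h2, Algebra.TensorProduct.tmul_mul_tmul, mul_one])
  refine ⟨f₁ * f₂, fun h => (Ideal.IsPrime.mem_or_mem ‹_› h).elim hf₁p hf₂p, ?_⟩
  set S := Localization.Away (f₁ * f₂) with hS
  have hunit : IsUnit (algebraMap R S (f₁ * f₂)) := IsLocalization.Away.algebraMap_isUnit _
  rw [map_mul] at hunit
  obtain ⟨a₁, ha₁⟩ := isUnit_of_mul_isUnit_left hunit
  obtain ⟨a₂, ha₂⟩ := isUnit_of_mul_isUnit_right hunit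
  have hVU : ((1 : S) ⊗ₜ[R] v) * ((1 : S) ⊗ₜ[R] u) = (a₁ : S) • (1 : S ⊗[R] A) := by
    rw [Algebra.TensorProduct.tmul_mul_tmul, mul_one, hf₁, Algebra.algebraMap_eq_smul_one,
      TensorProduct.tmul_smul, ← Algebra.TensorProduct.one_def, ha₁, algebraMap_smul]
  have hUV : ((1 : S) ⊗ₜ[R] u) * ((1 : S) ⊗ₜ[R] v) = (a₂ : S) • (1 : S ⊗[R] A) := by
    rw [Algebra.TensorProduct.tmul_mul_tmul, mul_one, hf₂, Algebra.algebraMap_eq_smul_one,
      TensorProduct.tmul_smul, ← Algebra.TensorProduct.one_def, ha₂, algebraMap_smul]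
  have hU : IsUnit ((1 : S) ⊗ₜ[R] u : S ⊗[R] A) := by
    rw [isUnit_iff_exists_and_exists]
    refine ⟨⟨((a₂⁻¹ : Sˣ) : S) • ((1 : S) ⊗ₜ[R] v), ?_⟩, ⟨((a₁⁻¹ : Sˣ) : S) • ((1 : S) ⊗ₜ[R] v), ?_⟩⟩
    · rw [mul_smul_comm, hUV, smul_smul, Units.inv_mul, one_smul]
    · rw [smul_mul_assoc, hVU, smul_smul, Units.inv_mul, one_smul]
  refine ⟨hU.unit, fun a => ?_⟩
  rw [Units.eq_mul_inv_iff_mul_eq, IsUnit.unit_spec]
  induction a using TensorProduct.induction_on with
  | zero => simp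
  | tmul s a =>
    rw [Algebra.TensorProduct.map_tmul, AlgHom.id_apply, Algebra.TensorProduct.tmul_mul_tmul,
      Algebra.TensorProduct.tmul_mul_tmul, mul_one, one_mul]
    congr 1
    exact hu' a
  | add x y hx hy => rw [map_add, add_mul, mul_add, hx, hy]

end Away

end Groth.Agent.H7.LG
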