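import Mathlib
import Groth.Agent.Lib.Helper7.LG.AzConj

set_option autoImplicit false
universe u v w

namespace Groth.Agent.H7.LG

open scoped TensorProduct
open MvPolynomial

section LocalLG
variable (R : Type u) [CommRing R]

/-- local rings are LG rings. -/
theorem isLGRing_of_isLocalRing [IsLocalRing R] : LGRing.IsLGRing R := by
  intro n f h
  obtain ⟨s', hs'⟩ := h (IsLocalRing.maximalIdeal R)
  choose s hs using fun i => Ideal.Quotient.mk_surjective (I := IsLocalRing.maximalIdeal R) (s' i)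
  refine ⟨s, ?_⟩
  have h1 : aeval (fun i => Ideal.Quotient.mk (IsLocalRing.maximalIdeal R) (s i)) f =
      Ideal.Quotient.mk (IsLocalRing.maximalIdeal R) (eval s f) := by
    have := aeval_algebraMap_apply (R := R) (A := R) (B := R ⧸ IsLocalRing.maximalIdeal R) s f
    rw [aeval_eq_eval] at this
    exact this
  have h2 : (fun i => Ideal.Quotient.mk (IsLocalRing.maximalIdeal R) (s i)) = s' := funext hs
  rw [h2] at h1
  rw [h1] at hs'
  rw [aeval_eq_eval]
  by_contra hnu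
  have hmem : eval s f ∈ IsLocalRing.maximalIdeal R := (IsLocalRing.mem_maximalIdeal _).mpr hnu
  have h0 : Ideal.Quotient.mk (IsLocalRing.maximalIdeal R) (eval s f) = 0 :=
    Ideal.Quotient.eq_zero_iff_mem.mpr hmem
  rw [h0] at hs'
  exact not_isUnit_zero hs'

end LocalLG

section Inner
variable {R : Type u} [CommRing R] {A : Type v} [Ring A] [Algebra R A] [IsAzumaya R A]

/-- automorphisms of Azumaya algebras over LG rings are inner. -/
theorem exists_inner_of_isLGRing (hR : LGRing.IsLGRing R) (φ : A ≃ₐ[R] A) :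
    ∃ a : Aˣ, ∀ x : A, φ x = (a : A) * x * ((a⁻¹ : Aˣ) : A) := by
  obtain ⟨a, ha⟩ := exists_unit_inter (φ : A →ₐ[R] A) (AlgHom.id R A) hR
  refine ⟨a, fun x => ?_⟩
  have h1 : φ x * (a : A) = (a : A) * x := ha x
  rw [← h1, mul_assoc, Units.mul_inv, mul_one]

/-- two units inducing the same inner automorphism of an Azumaya algebra differ by a central unit. -/
theorem exists_unit_of_inner_eq (a a' : Aˣ)
    (h : ∀ x : A, (a : A) * x * ((a⁻¹ : Aˣ) : A) = (a' : A) * x * ((a'⁻¹ : Aˣ) : A)) :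
    ∃ c : Rˣ, (a' : A) = algebraMap R A (c : R) * (a : A) := by
  -- z = a' * a⁻¹ is central
  have hcomm : ∀ (b b' : Aˣ), (∀ x : A, (b : A) * x * ((b⁻¹ : Aˣ) : A) = (b' : A) * x * ((b'⁻¹ : Aˣ) : A)) →
      ∀ x : A, ((b' : A) * ((b⁻¹ : Aˣ) : A)) * x = x * ((b' : A) * ((b⁻¹ : Aˣ) : A)) := by
    intro b b' hb x
    have h1 := hb (((b⁻¹ : Aˣ) : A) * x * (b : A))
    have h2 : (b : A) * (((b⁻¹ : Aˣ) : A) * x * (b : A)) * ((b⁻¹ : Aˣ) : A) = x := by
      simp only [← mul_assoc, Units.mul_inv, one_mul]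
      rw [mul_assoc, Units.mul_inv, mul_one]
    rw [h2] at h1
    -- x = b' b⁻¹ x b b'⁻¹
    calc (b' : A) * ((b⁻¹ : Aˣ) : A) * x
        = (b' : A) * ((b⁻¹ : Aˣ) : A) * x * ((b : A) * ((b'⁻¹ : Aˣ) : A) * ((b' : A) * ((b⁻¹ : Aˣ) : A))) := by
          have : (b : A) * ((b'⁻¹ : Aˣ) : A) * ((b' : A) * ((b⁻¹ : Aˣ) : A)) = 1 := by
            rw [mul_assoc, ← mul_assoc ((b'⁻¹ : Aˣ) : A), Units.inv_mul, one_mul, Units.mul_inv]
          rw [this, mul_one]
      _ = ((b' : A) * (((b⁻¹ : Aˣ) : A) * x * (b : A)) * ((b'⁻¹ : Aˣ) : A)) *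
            ((b' : A) * ((b⁻¹ : Aˣ) : A)) := by
          simp only [mul_assoc]
      _ = x * ((b' : A) * ((b⁻¹ : Aˣ) : A)) := by rw [← h1]
  obtain ⟨r, hr⟩ := center_azumaya R A _ (hcomm a a' h)
  obtain ⟨r', hr'⟩ := center_azumaya R A _ (hcomm a' a (fun x => (h x).symm))
  have hrr' : r * r' = 1 := by
    apply FaithfulSMul.algebraMap_injective R A
    rw [map_mul, map_one, ← hr, ← hr', mul_assoc, ← mul_assoc ((a⁻¹ : Aˣ) : A), Units.inv_mul,
      one_mul, Units.mul_inv]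
  refine ⟨⟨r, r', hrr', by rw [mul_comm]; exact hrr'⟩, ?_⟩
  show (a' : A) = algebraMap R A r * (a : A)
  rw [← hr, mul_assoc, Units.inv_mul, mul_one]

end Inner

end Groth.Agent.H7.LG
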