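import Mathlib
import Groth.Agent.Lib.Helper7.LG.Basic

set_option autoImplicit false
universe u v w

namespace Groth.Agent.H7.LG

open MvPolynomial

section Aff
variable {R : Type u} [CommRing R]

/-- membership of `comap φ p` in the complement of a zero locus of a finite family -/
theorem comap_mem_compl_zeroLocus_iff {A : Type*} {B : Type*} [CommRing A] [CommRing B]
    {r : ℕ} (g : Fin r → A) (φ : A →+* B) (p : PrimeSpectrum B) :
    PrimeSpectrum.comap φ p ∈ (PrimeSpectrum.zeroLocus (Set.range g))ᶜ ↔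
      ∃ j, φ (g j) ∉ p.asIdeal := by
  rw [Set.mem_compl_iff, PrimeSpectrum.mem_zeroLocus, Set.range_subset_iff]
  constructor
  · intro h
    by_contra hcon
    apply h
    intro j
    by_contra hj
    exact hcon ⟨j, hj⟩
  · rintro ⟨j, hj⟩ h
    exact hj (h j)

/-- the general LG principle for finitely many polynomial functions: if for each maximal ideal
some point makes one of the `g j` a unit mod `m`, then some point makes the `g j` generate the
unit ideal. -/
theorem exists_point_span_eq_top (hR : LGRing.IsLGRing R) {n r : ℕ}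
    (g : Fin r → MvPolynomial (Fin n) R)
    (h : ∀ (m : Ideal R) [m.IsMaximal], ∃ (x : Fin n → R) (j : Fin r), eval x (g j) ∉ m) :
    ∃ x : Fin n → R, Ideal.span (Set.range fun j => eval x (g j)) = ⊤ := by
  classical
  let G : MvPolynomial (Fin n ⊕ Fin r) R := ∑ j, X (Sum.inr j) * rename Sum.inl (g j)
  have hG : ∀ s : Fin n ⊕ Fin r → R,
      eval s G = ∑ j, s (Sum.inr j) * eval (fun k => s (Sum.inl k)) (g j) := by
    intro s
    simp only [G, map_sum, map_mul, eval_X, eval_rename]
    rfl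
  obtain ⟨s, hs⟩ := exists_isUnit_eval hR G (fun m _ => by
    obtain ⟨x, j, hxj⟩ := h m
    refine ⟨Sum.elim x (Pi.single j 1), ?_⟩
    rw [hG]
    simp only [Sum.elim_inr, Sum.elim_inl]
    rw [Finset.sum_eq_single j]
    · simpa using hxj
    · intro l _ hl
      simp [Pi.single_apply, hl]
    · intro hj
      exact absurd (Finset.mem_univ j) hj)
  refine ⟨fun k => s (Sum.inl k), ?_⟩
  rw [Ideal.eq_top_iff_one]
  rw [hG] at hs
  obtain ⟨u, hu⟩ := hs
  have hmem : ∑ j, s (Sum.inr j) * eval (fun k => s (Sum.inl k)) (g j) ∈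
      Ideal.span (Set.range fun j => eval (fun k => s (Sum.inl k)) (g j)) :=
    Ideal.sum_mem _ fun j _ => Ideal.mul_mem_left _ _ (Ideal.subset_span ⟨j, rfl⟩)
  rw [← hu] at hmem
  have := Ideal.mul_mem_left _ (↑u⁻¹ : R) hmem
  rwa [Units.inv_mul] at this

/-- S16599 in `PrimeSpectrum` form -/
theorem exists_point_affineSpace (hR : LGRing.IsLGRing R) (n : ℕ)
    (U : Set (PrimeSpectrum (MvPolynomial (Fin n) R))) (hU : IsCompact U) (hUo : IsOpen U)
    (h : ∀ (m : Ideal R) [m.IsMaximal], ∃ x : Fin n → R ⧸ m,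
      Set.range (PrimeSpectrum.comap (MvPolynomial.eval₂Hom (Ideal.Quotient.mk m) x)) ⊆ U) :
    ∃ x : Fin n → R, Set.range (PrimeSpectrum.comap (MvPolynomial.eval x)) ⊆ U := by
  obtain ⟨I, hI, hIU⟩ := PrimeSpectrum.isCompact_isOpen_iff_ideal.mp ⟨hU, hUo⟩
  obtain ⟨r, g, hg⟩ := Submodule.fg_iff_exists_fin_generating_family.mp hI
  have hUg : U = (PrimeSpectrum.zeroLocus (Set.range g))ᶜ := by
    rw [← hIU, ← hg]
    congr 1
    exact PrimeSpectrum.zeroLocus_span (Set.range g)
  obtain ⟨x, hx⟩ := exists_point_span_eq_top hR g (fun m _ => by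
    obtain ⟨xb, hxb⟩ := h m
    letI := Ideal.Quotient.field m
    have hmem := hxb ⟨⟨⊥, Ideal.isPrime_bot⟩, rfl⟩
    rw [hUg, comap_mem_compl_zeroLocus_iff] at hmem
    obtain ⟨j, hj⟩ := hmem
    choose x hx using fun k => Ideal.Quotient.mk_surjective (xb k)
    refine ⟨x, j, ?_⟩
    have hcomp : eval₂Hom (Ideal.Quotient.mk m) xb (g j) = Ideal.Quotient.mk m (eval x (g j)) := by
      have h1 := MvPolynomial.eval₂_comp_left (Ideal.Quotient.mk m) (RingHom.id R) x (g j)
      rw [RingHom.comp_id] at h1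
      have h2 : (⇑(Ideal.Quotient.mk m) ∘ x) = xb := funext hx
      rw [h2] at h1
      exact h1.symm
    rw [hcomp] at hj
    intro hmem
    apply hj
    rw [Ideal.Quotient.eq_zero_iff_mem.mpr hmem]
    exact Ideal.zero_mem _)
  refine ⟨x, ?_⟩
  rintro _ ⟨p, rfl⟩
  rw [hUg, comap_mem_compl_zeroLocus_iff]
  by_contra hcon
  have hall : ∀ j, eval x (g j) ∈ p.asIdeal := fun j => by
    by_contra hj
    exact hcon ⟨j, hj⟩
  have : Ideal.span (Set.range fun j => eval x (g j)) ≤ p.asIdeal := by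
    rw [Ideal.span_le]
    rintro _ ⟨j, rfl⟩
    exact hall j
  rw [hx] at this
  exact p.isPrime.ne_top (top_le_iff.mp this)

end Aff

end Groth.Agent.H7.LG
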