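import Mathlib
import Groth.Agent.Lib.Helper7.LG.AzSep

set_option autoImplicit false
universe u v w v'

namespace Groth.Agent.H7.LG

open scoped TensorProduct
open MulOpposite

section Cent
variable (R : Type u) [CommRing R] (B : Type v) [Ring B] [Algebra R B]
  (C : Type w) [Ring C] [Algebra R C]

/-- coordinate map -/
noncomputable def coordT (f : B →ₗ[R] R) : B ⊗[R] C →ₗ[R] C :=
  (TensorProduct.lid R C).toLinearMap ∘ₗ f.rTensor C

variable {R B C}

theorem coordT_tmul (f : B →ₗ[R] R) (b : B) (c : C) : coordT R B C f (b ⊗ₜ c) = f b • c := by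
  simp [coordT]

theorem coordT_mul_right (f : B →ₗ[R] R) (x : B ⊗[R] C) (c : C) :
    coordT R B C f (x * ((1 : B) ⊗ₜ[R] c)) = coordT R B C f x * c := by
  induction x using TensorProduct.induction_on with
  | zero => simp
  | tmul b c' =>
    rw [Algebra.TensorProduct.tmul_mul_tmul, mul_one, coordT_tmul, coordT_tmul, smul_mul_assoc]
  | add x y hx hy => rw [add_mul, map_add, map_add, hx, hy, add_mul]

theorem coordT_mul_left (f : B →ₗ[R] R) (x : B ⊗[R] C) (c : C) :
    coordT R B C f (((1 : B) ⊗ₜ[R] c) * x) = c * coordT R B C f x := by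
  induction x using TensorProduct.induction_on with
  | zero => simp
  | tmul b c' =>
    rw [Algebra.TensorProduct.tmul_mul_tmul, one_mul, coordT_tmul, coordT_tmul, mul_smul_comm]
  | add x y hx hy => rw [mul_add, map_add, map_add, hx, hy, mul_add]

variable (R B C)

theorem includeLeft_injective [Module.Finite R C] [Module.Projective R C] [FaithfulSMul R C] :
    Function.Injective (Algebra.TensorProduct.includeLeft : B →ₐ[R] B ⊗[R] C) := by
  obtain ⟨τ, hτ⟩ := exists_retraction R C
  have hleft : Function.LeftInverse ((TensorProduct.rid R B).toLinearMap ∘ₗ τ.lTensor B)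
      (Algebra.TensorProduct.includeLeft : B →ₐ[R] B ⊗[R] C) := by
    intro b
    simp [hτ]
  exact hleft.injective

/-- the centralizer of `1 ⊗ C` in `B ⊗ C` is `B ⊗ 1`. -/
theorem exists_eq_tmul_one_of_commute [Module.Finite R B] [Module.Projective R B] [IsAzumaya R C]
    (x : B ⊗[R] C) (hx : ∀ c : C, x * ((1 : B) ⊗ₜ[R] c) = ((1 : B) ⊗ₜ[R] c) * x) :
    ∃ b : B, x = b ⊗ₜ[R] (1 : C) := by
  classical
  obtain ⟨n, π, hπ⟩ := Module.Finite.exists_fin' R B
  obtain ⟨i, hi⟩ := Module.projective_lifting_property π LinearMap.id hπ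
  let e : Fin n → B := fun j => π (fun j' => if j = j' then (1 : R) else 0)
  let f : Fin n → (B →ₗ[R] R) := fun j => (LinearMap.proj j : (Fin n → R) →ₗ[R] R) ∘ₗ i
  have hdual : ∀ b : B, b = ∑ j, f j b • e j := by
    intro b
    have h2 : i b = ∑ j, (i b) j • (fun j' => if j = j' then (1 : R) else 0 : Fin n → R) :=
      pi_eq_sum_univ (i b)
    have h3 := congrArg π h2
    rw [map_sum] at h3
    simp only [map_smul] at h3
    rw [show π (i b) = b from LinearMap.congr_fun hi b] at h3
    exact h3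
  have hexp : ∀ y : B ⊗[R] C, y = ∑ j, e j ⊗ₜ[R] coordT R B C (f j) y := by
    intro y
    induction y using TensorProduct.induction_on with
    | zero => simp
    | tmul b c =>
      conv_lhs => rw [hdual b, TensorProduct.sum_tmul]
      apply Finset.sum_congr rfl
      intro j _
      rw [coordT_tmul, TensorProduct.smul_tmul]
    | add y₁ y₂ h₁ h₂ =>
      conv_lhs => rw [h₁, h₂, ← Finset.sum_add_distrib]
      apply Finset.sum_congr rfl
      intro j _
      rw [map_add, TensorProduct.tmul_add]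
  have hcent : ∀ j, ∃ r : R, coordT R B C (f j) x = algebraMap R C r := by
    intro j
    apply center_azumaya R C
    intro c
    rw [← coordT_mul_right, ← coordT_mul_left, hx]
  choose r hr using hcent
  refine ⟨∑ j, r j • e j, ?_⟩
  conv_lhs => rw [hexp x]
  rw [TensorProduct.sum_tmul]
  apply Finset.sum_congr rfl
  intro j _
  rw [hr, Algebra.algebraMap_eq_smul_one, TensorProduct.tmul_smul, TensorProduct.smul_tmul']

end Cent

section Iso
variable (R : Type u) [CommRing R] (A : Type v) [Ring A] [Algebra R A] [Module.Finite R A]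
  [Module.Projective R A] (B : Type v') [Ring B] [Algebra R B] [Module.Finite R B]
  [Module.Projective R B] (C : Type w) [Ring C] [Algebra R C] [IsAzumaya R C]

/-- an isomorphism `A ⊗ C ≃ B ⊗ C` compatible with the embeddings of `C` induces `A ≃ B`. -/
theorem nonempty_algEquiv_of_equiv_includeRight (Ψ : A ⊗[R] C ≃ₐ[R] B ⊗[R] C)
    (hΨ : ∀ c : C, Ψ ((1 : A) ⊗ₜ[R] c) = (1 : B) ⊗ₜ[R] c) : Nonempty (A ≃ₐ[R] B) := by
  have hΨs : ∀ c : C, Ψ.symm ((1 : B) ⊗ₜ[R] c) = (1 : A) ⊗ₜ[R] c := by
    intro c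
    rw [← hΨ c, Ψ.symm_apply_apply]
  let jA : A →ₐ[R] A ⊗[R] C := Algebra.TensorProduct.includeLeft
  let jB : B →ₐ[R] B ⊗[R] C := Algebra.TensorProduct.includeLeft
  have hjA : Function.Injective jA := includeLeft_injective R A C
  have hjB : Function.Injective jB := includeLeft_injective R B C
  have h1 : ∀ a : A, ∃ b : B, Ψ (a ⊗ₜ[R] (1 : C)) = b ⊗ₜ[R] (1 : C) := by
    intro a
    apply exists_eq_tmul_one_of_commute R B C
    intro c
    rw [← hΨ c, ← map_mul, ← map_mul, Algebra.TensorProduct.tmul_mul_tmul,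
      Algebra.TensorProduct.tmul_mul_tmul, mul_one, one_mul, mul_one, one_mul]
  have h2 : ∀ b : B, ∃ a : A, Ψ.symm (b ⊗ₜ[R] (1 : C)) = a ⊗ₜ[R] (1 : C) := by
    intro b
    apply exists_eq_tmul_one_of_commute R A C
    intro c
    rw [← hΨs c, ← map_mul, ← map_mul, Algebra.TensorProduct.tmul_mul_tmul,
      Algebra.TensorProduct.tmul_mul_tmul, mul_one, one_mul, mul_one, one_mul]
  have hmap : jA.range.map (Ψ : A ⊗[R] C →ₐ[R] B ⊗[R] C) = jB.range := by
    ext y
    constructor
    · rintro ⟨x, ⟨a, rfl⟩, rfl⟩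
      obtain ⟨b, hb⟩ := h1 a
      exact ⟨b, hb.symm⟩
    · rintro ⟨b, rfl⟩
      obtain ⟨a, ha⟩ := h2 b
      refine ⟨a ⊗ₜ[R] (1 : C), ⟨a, rfl⟩, ?_⟩
      show Ψ (a ⊗ₜ[R] (1 : C)) = b ⊗ₜ[R] (1 : C)
      rw [← ha, Ψ.apply_symm_apply]
  exact ⟨(AlgEquiv.ofInjective jA hjA).trans ((Ψ.subalgebraMap jA.range).trans
    ((Subalgebra.equivOfEq _ _ hmap).trans (AlgEquiv.ofInjective jB hjB).symm))⟩

end Iso

end Groth.Agent.H7.LG
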