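import Mathlib
import Groth.Agent.Lib.Helper7.LG.Sub
import Groth.Agent.Lib.Helper7.CSA5
import Groth.Agent.Lib.Helper7.Azu10

set_option autoImplicit false
universe u v w w'

namespace Groth.Agent.H7.LG

open scoped TensorProduct

section Tower
variable {R : Type u} [CommRing R] {A : Type v} [Ring A] [Algebra R A]
variable (M : Type w) [AddCommGroup M] [Module A M] [Module R M] [IsScalarTower R A M]

/-- transitivity of projectivity -/
theorem projective_of_tower [Module.Projective R A] [Module.Projective A M] :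
    Module.Projective R M := by
  obtain ⟨s, hs⟩ := (Module.projective_def' (R := A) (P := M)).mp inferInstance
  classical
  haveI : Module.Projective R (M →₀ A) :=
    Module.Projective.of_equiv' (finsuppLequivDFinsupp (ι := M) (M := A) R).symm
  exact Module.Projective.of_split (s.restrictScalars R)
    ((Finsupp.linearCombination A (id : M → M)).restrictScalars R)
    (by ext x; exact LinearMap.congr_fun hs x)

theorem finite_of_tower [Module.Finite R A] [Module.Finite A M] : Module.Finite R M :=
  Module.Finite.trans A M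

end Tower

section Act
variable {R : Type u} [CommRing R] {A : Type v} [Ring A] [Algebra R A]
variable (S : Type w') [CommRing S] [Algebra R S]
variable (M : Type w) [AddCommGroup M] [Module A M] [Module R M] [IsScalarTower R A M]

variable (R A) in
/-- the action of `S ⊗ A` on `S ⊗ M`. -/
noncomputable def actBC : S ⊗[R] A →ₐ[S] Module.End S (S ⊗[R] M) :=
  Algebra.TensorProduct.lift (Algebra.ofId S (Module.End S (S ⊗[R] M)))
    ((Module.End.baseChangeHom R S M).comp (Algebra.lsmul R R M))
    (fun s a => Algebra.commutes' s _)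

theorem actBC_tmul (s : S) (a : A) (t : S) (x : M) :
    actBC R A S M (s ⊗ₜ[R] a) (t ⊗ₜ[R] x) = (s * t) ⊗ₜ[R] (a • x) := by
  rw [actBC, Algebra.TensorProduct.lift_tmul, Algebra.ofId_apply, Module.End.mul_apply,
    Module.algebraMap_end_apply, AlgHom.comp_apply]
  change s • ((Algebra.lsmul R R M a).baseChange S) (t ⊗ₜ[R] x) = _
  rw [LinearMap.baseChange_tmul, Algebra.lsmul_apply, TensorProduct.smul_tmul', smul_eq_mul]

theorem actBC_one_tmul (a : A) :
    actBC R A S M (1 ⊗ₜ[R] a) = (Algebra.lsmul R R M a).baseChange S := by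
  rw [actBC, Algebra.TensorProduct.lift_tmul, map_one, one_mul]
  rfl

end Act

section LinSub
variable {R : Type u} [CommRing R] {A : Type v} [Ring A] [Algebra R A]
variable (M : Type w) [AddCommGroup M] [Module A M] [Module R M] [IsScalarTower R A M]
variable (N : Type w') [AddCommGroup N] [Module A N] [Module R N] [IsScalarTower R A N]

variable (R A) in
/-- the `R`-submodule of `A`-linear maps. -/
def linSub : Submodule R (M →ₗ[R] N) where
  carrier := {f | ∀ (a : A) (x : M), f (a • x) = a • f x}
  add_mem' := by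
    intro f g hf hg a x
    rw [LinearMap.add_apply, LinearMap.add_apply, hf, hg, smul_add]
  zero_mem' := by
    intro a x
    simp
  smul_mem' := by
    intro r f hf a x
    rw [LinearMap.smul_apply, LinearMap.smul_apply, hf, smul_comm]

theorem mem_linSub (f : M →ₗ[R] N) : f ∈ linSub R A M N ↔ ∀ (a : A) (x : M), f (a • x) = a • f x :=
  Iff.rfl

theorem restrictScalars_mem_linSub (f : M →ₗ[A] N) : f.restrictScalars R ∈ linSub R A M N :=
  fun a x => f.map_smul a x

/-- an element of `linSub` as an `A`-linear map -/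
def ofLinSub (f : M →ₗ[R] N) (hf : f ∈ linSub R A M N) : M →ₗ[A] N where
  toFun := f
  map_add' := f.map_add
  map_smul' := hf

end LinSub

section Lift
variable {R : Type u} [CommRing R] {A : Type v} [Ring A] [Algebra R A]
variable (S : Type w') [Field S] [Algebra R S]
variable (M : Type w) [AddCommGroup M] [Module A M] [Module R M] [IsScalarTower R A M]
variable (N : Type w) [AddCommGroup N] [Module A N] [Module R N] [IsScalarTower R A N]

open Groth.Agent.H7.CSA in
/-- lifting of `S ⊗ A`-linear maps between base changes to `A`-linear maps. -/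
theorem exists_lift_of_linear (hS : Function.Surjective (algebraMap R S)) [Module.Projective A M]
    (f' : Tw (actBC R A S M) →ₗ[S ⊗[R] A] Tw (actBC R A S N)) :
    ∃ f : M →ₗ[A] N, ∀ x : M, (1 : S) ⊗ₜ[R] f x = f' ((1 : S) ⊗ₜ[R] x) := by
  letI iM : Module A (Tw (actBC R A S M)) :=
    Module.compHom _ (Algebra.TensorProduct.includeRight : A →ₐ[R] S ⊗[R] A).toRingHom
  letI iN : Module A (Tw (actBC R A S N)) :=
    Module.compHom _ (Algebra.TensorProduct.includeRight : A →ₐ[R] S ⊗[R] A).toRingHom
  have hsmulM : ∀ (a : A) (v : Tw (actBC R A S M)), a • v = ((1 : S) ⊗ₜ[R] a) • v :=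
    fun a v => rfl
  have hsmulN : ∀ (a : A) (v : Tw (actBC R A S N)), a • v = ((1 : S) ⊗ₜ[R] a) • v :=
    fun a v => rfl
  let mkM : M →ₗ[A] Tw (actBC R A S M) :=
    { toFun := fun x => (1 : S) ⊗ₜ[R] x
      map_add' := fun x y => TensorProduct.tmul_add _ _ _
      map_smul' := fun a x => by
        rw [RingHom.id_apply, hsmulM, Tw.smul_def, actBC_tmul, one_mul] }
  let mkN : N →ₗ[A] Tw (actBC R A S N) :=
    { toFun := fun x => (1 : S) ⊗ₜ[R] x
      map_add' := fun x y => TensorProduct.tmul_add _ _ _
      map_smul' := fun a x => by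
        rw [RingHom.id_apply, hsmulN, Tw.smul_def, actBC_tmul, one_mul] }
  have hmkN : Function.Surjective mkN := by
    intro z
    induction z using TensorProduct.induction_on with
    | zero => exact ⟨0, map_zero mkN⟩
    | tmul s y =>
      obtain ⟨r, rfl⟩ := hS s
      refine ⟨r • y, ?_⟩
      show (1 : S) ⊗ₜ[R] (r • y) = algebraMap R S r ⊗ₜ[R] y
      rw [TensorProduct.tmul_smul, TensorProduct.smul_tmul', Algebra.smul_def, mul_one]
    | add z₁ z₂ h₁ h₂ =>
      obtain ⟨y₁, hy₁⟩ := h₁
      obtain ⟨y₂, hy₂⟩ := h₂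
      exact ⟨y₁ + y₂, by rw [map_add, hy₁, hy₂]; rfl⟩
  let fA : Tw (actBC R A S M) →ₗ[A] Tw (actBC R A S N) :=
    { toFun := f'
      map_add' := f'.map_add
      map_smul' := fun a v => by
        rw [RingHom.id_apply, hsmulM, hsmulN]
        exact f'.map_smul _ _ }
  obtain ⟨f, hf⟩ := Module.projective_lifting_property mkN (fA ∘ₗ mkM) hmkN
  exact ⟨f, fun x => LinearMap.congr_fun hf x⟩

end Lift

section Local
variable {R : Type u} [CommRing R] {A : Type v} [Ring A] [Algebra R A] [IsAzumaya R A]
variable (m : Ideal R) [m.IsMaximal]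
variable (M : Type w) [AddCommGroup M] [Module A M] [Module R M] [IsScalarTower R A M]
  [Module.Finite A M] [Module.Projective A M]
variable (N : Type w) [AddCommGroup N] [Module A N] [Module R N] [IsScalarTower R A N]
  [Module.Finite A N] [Module.Projective A N]

open Groth.Agent.H7.CSA in
/-- local existence of a split surjection when the fibre dimension allows it. -/
theorem exists_local_split
    (hle : Module.finrank (R ⧸ m) ((R ⧸ m) ⊗[R] N) ≤ Module.finrank (R ⧸ m) ((R ⧸ m) ⊗[R] M)) :
    ∃ F ∈ linSub R A M N, ∃ G ∈ linSub R A N M,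
      (F ∘ₗ G).baseChange (R ⧸ m) = LinearMap.id := by
  classical
  letI := Ideal.Quotient.field m
  haveI : IsAzumaya (R ⧸ m) ((R ⧸ m) ⊗[R] A) := Azu.isAzumaya_baseChange R (R ⧸ m) A
  haveI : IsSimpleRing ((R ⧸ m) ⊗[R] A) := Azu.isSimpleRing_of_isAzumaya_field (R ⧸ m) _
  haveI : Module.Finite R M := finite_of_tower (A := A) M
  haveI : Module.Finite R N := finite_of_tower (A := A) N
  haveI : FiniteDimensional (R ⧸ m) ((R ⧸ m) ⊗[R] A) := inferInstance
  obtain ⟨S₀, hS₀⟩ := exists_simple_left_ideal (R ⧸ m) ((R ⧸ m) ⊗[R] A)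
  obtain ⟨i, ⟨eM⟩⟩ := exists_linearEquiv_fun (R ⧸ m) ((R ⧸ m) ⊗[R] A) S₀
    (Tw (actBC R A (R ⧸ m) M))
  obtain ⟨j, ⟨eN⟩⟩ := exists_linearEquiv_fun (R ⧸ m) ((R ⧸ m) ⊗[R] A) S₀
    (Tw (actBC R A (R ⧸ m) N))
  have h1 := finrank_eq_of_linearEquiv_fun (R ⧸ m) ((R ⧸ m) ⊗[R] A) S₀ _ i eM
  have h2 := finrank_eq_of_linearEquiv_fun (R ⧸ m) ((R ⧸ m) ⊗[R] A) S₀ _ j eN
  have : Module.Finite (R ⧸ m) S₀ := Module.Finite.of_injective (S₀.subtype.restrictScalars (R ⧸ m))
    S₀.subtype_injective
  have : Nontrivial S₀ := IsSimpleModule.nontrivial ((R ⧸ m) ⊗[R] A) S₀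
  have hs : 0 < Module.finrank (R ⧸ m) S₀ := Module.finrank_pos
  have hji : j ≤ i := by
    have h3 : j * Module.finrank (R ⧸ m) S₀ ≤ i * Module.finrank (R ⧸ m) S₀ := by
      rw [← h1, ← h2]
      exact hle
    exact Nat.le_of_mul_le_mul_right h3 hs
  let p : (Fin i → S₀) →ₗ[(R ⧸ m) ⊗[R] A] (Fin j → S₀) :=
    LinearMap.funLeft _ _ (Fin.castLE hji)
  let q : (Fin j → S₀) →ₗ[(R ⧸ m) ⊗[R] A] (Fin i → S₀) :=
    LinearMap.pi fun x => if h : x.1 < j then LinearMap.proj ⟨x.1, h⟩ else 0
  have hpq : ∀ v, p (q v) = v := by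
    intro v
    funext y
    show q v (Fin.castLE hji y) = v y
    simp only [q, LinearMap.pi_apply]
    rw [dif_pos (by simp)]
    rfl
  let F' : Tw (actBC R A (R ⧸ m) M) →ₗ[(R ⧸ m) ⊗[R] A] Tw (actBC R A (R ⧸ m) N) :=
    eN.symm.toLinearMap ∘ₗ p ∘ₗ eM.toLinearMap
  let G' : Tw (actBC R A (R ⧸ m) N) →ₗ[(R ⧸ m) ⊗[R] A] Tw (actBC R A (R ⧸ m) M) :=
    eM.symm.toLinearMap ∘ₗ q ∘ₗ eN.toLinearMap
  have hFG' : ∀ v, F' (G' v) = v := by
    intro v
    simp only [F', G', LinearMap.comp_apply, LinearEquiv.coe_coe, LinearEquiv.apply_symm_apply, hpq,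
      LinearEquiv.symm_apply_apply]
  obtain ⟨F, hF⟩ := exists_lift_of_linear (R ⧸ m) M N Ideal.Quotient.mk_surjective F'
  obtain ⟨G, hG⟩ := exists_lift_of_linear (R ⧸ m) N M Ideal.Quotient.mk_surjective G'
  refine ⟨F.restrictScalars R, restrictScalars_mem_linSub M N F, G.restrictScalars R,
    restrictScalars_mem_linSub N M G, ?_⟩
  ext y
  simp only [TensorProduct.AlgebraTensorModule.curry_apply,
    TensorProduct.curry_apply, LinearMap.coe_restrictScalars, LinearMap.baseChange_tmul,
    LinearMap.coe_comp, Function.comp_apply, LinearMap.id_coe, id_eq]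
  rw [hF, hG]
  exact hFG' _

end Local

section Rank
variable {R : Type u} [CommRing R]

theorem finrank_residue (m : Ideal R) [hm : m.IsMaximal] (M : Type w) [AddCommGroup M] [Module R M]
    [Module.Finite R M] [Module.Projective R M] :
    Module.finrank (R ⧸ m) ((R ⧸ m) ⊗[R] M) = Module.rankAtStalk M ⟨m, hm.isPrime⟩ := by
  letI := Ideal.Quotient.field m
  have h2 := Module.rankAtStalk_baseChange (R := R) (M := M) (S := R ⧸ m)
    ⟨⊥, Ideal.isPrime_bot⟩
  rw [Module.rankAtStalk_eq_finrank_of_free] at h2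
  refine Eq.trans h2 ?_
  congr 1
  apply PrimeSpectrum.ext
  show Ideal.comap (algebraMap R (R ⧸ m)) ⊥ = m
  rw [← RingHom.ker_eq_comap_bot]
  exact Ideal.mk_ker

end Rank

section Main
variable {R : Type u} [CommRing R] {A : Type v} [Ring A] [Algebra R A] [IsAzumaya R A]
variable (M : Type w) [AddCommGroup M] [Module A M] [Module R M] [IsScalarTower R A M]
  [Module.Finite A M] [Module.Projective A M]
variable (N : Type w) [AddCommGroup N] [Module A N] [Module R N] [IsScalarTower R A N]
  [Module.Finite A N] [Module.Projective A N]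

/-- S16603 -/
theorem exists_surjective_of_rank_le (hR : LGRing.IsLGRing R)
    (h : ∀ p : PrimeSpectrum R, Module.rankAtStalk N p ≤ Module.rankAtStalk M p) :
    ∃ f : M →ₗ[A] N, Function.Surjective f := by
  haveI : Module.Finite R M := finite_of_tower (A := A) M
  haveI : Module.Finite R N := finite_of_tower (A := A) N
  haveI : Module.Projective R M := projective_of_tower (A := A) M
  haveI : Module.Projective R N := projective_of_tower (A := A) N
  obtain ⟨G, hG, F, hF, hbij⟩ := exists_bijective_comp_of_local N M hR (linSub R A N M)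
    (linSub R A M N) (fun m hm => by
      obtain ⟨F, hF, G, hG, hFG⟩ := exists_local_split (A := A) m M N (by
        rw [finrank_residue, finrank_residue]
        exact h _)
      exact ⟨G, hG, F, hF, hFG⟩)
  refine ⟨ofLinSub M N F hF, ?_⟩
  have := hbij.2
  rw [LinearMap.coe_comp] at this
  exact Function.Surjective.of_comp this

/-- over an LG ring, finite projective modules over an Azumaya algebra with the same rank function
are isomorphic. -/
theorem nonempty_linearEquiv_of_rank_eq (hR : LGRing.IsLGRing R)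
    (h : ∀ p : PrimeSpectrum R, Module.rankAtStalk N p = Module.rankAtStalk M p) :
    Nonempty (M ≃ₗ[A] N) := by
  haveI : Module.Finite R M := finite_of_tower (A := A) M
  haveI : Module.Finite R N := finite_of_tower (A := A) N
  haveI : Module.Projective R M := projective_of_tower (A := A) M
  haveI : Module.Projective R N := projective_of_tower (A := A) N
  obtain ⟨F, hF, G, hG, hbij1, hbij2⟩ := exists_bijective_of_local M N hR (linSub R A M N)
    (linSub R A N M) (fun m hm => by
      have hrk : Module.finrank (R ⧸ m) ((R ⧸ m) ⊗[R] N) =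
          Module.finrank (R ⧸ m) ((R ⧸ m) ⊗[R] M) := by
        rw [finrank_residue, finrank_residue]
        exact h _
      obtain ⟨F, hF, G, hG, hFG⟩ := exists_local_split (A := A) m M N hrk.le
      refine ⟨F, hF, G, hG, ?_, hFG⟩
      letI := Ideal.Quotient.field m
      have h1 : F.baseChange (R ⧸ m) ∘ₗ G.baseChange (R ⧸ m) = LinearMap.id := by
        rw [← LinearMap.baseChange_comp, hFG]
      have hsurj : Function.Surjective (F.baseChange (R ⧸ m)) := fun y =>
        ⟨G.baseChange (R ⧸ m) y, LinearMap.congr_fun h1 y⟩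
      have hinj : Function.Injective (F.baseChange (R ⧸ m)) :=
        (LinearMap.injective_iff_surjective_of_finrank_eq_finrank hrk.symm).mpr hsurj
      rw [LinearMap.baseChange_comp]
      ext x
      apply hinj
      have := LinearMap.congr_fun h1 (F.baseChange (R ⧸ m) ((1 : R ⧸ m) ⊗ₜ[R] x))
      simpa using this)
  have hinj : Function.Injective F := by
    have := hbij1.1
    rw [LinearMap.coe_comp] at this
    exact Function.Injective.of_comp this
  have hsurj : Function.Surjective F := by
    have := hbij2.2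
    rw [LinearMap.coe_comp] at this
    exact Function.Surjective.of_comp this
  exact ⟨LinearEquiv.ofBijective (ofLinSub M N F hF) ⟨hinj, hsurj⟩⟩

end Main

end Groth.Agent.H7.LG
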