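import Mathlib
import Groth.Agent.Lib.Helper7.LG.AzConj
import Groth.Agent.Lib.Helper7.LG.AzCent
import Groth.Agent.Lib.Helper7.LG.AzMod
import Groth.Agent.Lib.Helper7.Azu9

set_option autoImplicit false
universe u v v' w w'

namespace Groth.Agent.H7.LG

open scoped TensorProduct
open MulOpposite

section ConjEquiv
variable (R : Type u) [CommRing R] {D : Type w} [Ring D] [Algebra R D]

/-- conjugation by a unit as an algebra automorphism -/
def conjEquiv (u : Dˣ) : D ≃ₐ[R] D where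
  toFun x := ((u⁻¹ : Dˣ) : D) * x * (u : D)
  invFun y := (u : D) * y * ((u⁻¹ : Dˣ) : D)
  left_inv x := by
    simp only [← mul_assoc, Units.mul_inv, one_mul]
    rw [mul_assoc, Units.mul_inv, mul_one]
  right_inv y := by
    simp only [← mul_assoc, Units.inv_mul, one_mul]
    rw [mul_assoc, Units.inv_mul, mul_one]
  map_mul' x y := by
    have : x * y = x * ((u : D) * ((u⁻¹ : Dˣ) : D)) * y := by rw [Units.mul_inv, mul_one]
    rw [this]
    simp only [mul_assoc]
  map_add' x y := by rw [mul_add, add_mul]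
  commutes' r := by
    show ((u⁻¹ : Dˣ) : D) * algebraMap R D r * (u : D) = algebraMap R D r
    rw [← Algebra.commutes, mul_assoc, Units.inv_mul, mul_one]

theorem conjEquiv_apply (u : Dˣ) (x : D) :
    conjEquiv R u x = ((u⁻¹ : Dˣ) : D) * x * (u : D) := rfl

end ConjEquiv

section Cancel
variable {R : Type u} [CommRing R]

/-- S16608 (universe-general) -/
theorem nonempty_algEquiv_of_tensor (hR : LGRing.IsLGRing R)
    (A : Type v) [Ring A] [Algebra R A] [IsAzumaya R A]
    (B : Type v') [Ring B] [Algebra R B] [IsAzumaya R B]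
    (C : Type w) [Ring C] [Algebra R C] [IsAzumaya R C]
    (e : A ⊗[R] C ≃ₐ[R] B ⊗[R] C) : Nonempty (A ≃ₐ[R] B) := by
  haveI : IsAzumaya R (B ⊗[R] C) := Azu.isAzumaya_tensor R B C
  let f : C →ₐ[R] B ⊗[R] C := (e : A ⊗[R] C →ₐ[R] B ⊗[R] C).comp Algebra.TensorProduct.includeRight
  let g : C →ₐ[R] B ⊗[R] C := Algebra.TensorProduct.includeRight
  obtain ⟨u, hu⟩ := exists_unit_inter f g hR
  refine nonempty_algEquiv_of_equiv_includeRight R A B C (e.trans (conjEquiv R u)) ?_
  intro c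
  rw [AlgEquiv.trans_apply, conjEquiv_apply]
  have h1 : e ((1 : A) ⊗ₜ[R] c) * (u : B ⊗[R] C) = (u : B ⊗[R] C) * ((1 : B) ⊗ₜ[R] c) := hu c
  rw [mul_assoc, h1, ← mul_assoc, Units.inv_mul, one_mul]

/-- S16607 (universe-general) -/
theorem nonempty_algEquiv_of_matrix (hR : LGRing.IsLGRing R)
    (A : Type v) [Ring A] [Algebra R A] [IsAzumaya R A]
    (B : Type v') [Ring B] [Algebra R B] [IsAzumaya R B] (n : ℕ) (hn : 0 < n)
    (e : Matrix (Fin n) (Fin n) A ≃ₐ[R] Matrix (Fin n) (Fin n) B) : Nonempty (A ≃ₐ[R] B) := by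
  haveI : Nonempty (Fin n) := ⟨⟨0, hn⟩⟩
  haveI : IsAzumaya R (Matrix (Fin n) (Fin n) R) := IsAzumaya.matrix R (Fin n)
  exact nonempty_algEquiv_of_tensor hR A B (Matrix (Fin n) (Fin n) R)
    (((matrixEquivTensor (Fin n) R A).symm.trans e).trans (matrixEquivTensor (Fin n) R B))

end Cancel

end Groth.Agent.H7.LG
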