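import Mathlib
import Groth.Agent.Lib.Helper7.LG.AzCancel
import Groth.Agent.Lib.Helper7.Azu8

set_option autoImplicit false
universe u v v' w w'

namespace Groth.Agent.H7.LG

open scoped TensorProduct
open MulOpposite

section Dim
variable {R : Type u} [CommRing R] (m : Ideal R) [m.IsMaximal]

theorem finrank_residue_tensor (X : Type v) (Y : Type w) [AddCommGroup X] [Module R X]
    [AddCommGroup Y] [Module R Y] :
    Module.finrank (R ⧸ m) ((R ⧸ m) ⊗[R] (X ⊗[R] Y)) =
      Module.finrank (R ⧸ m) ((R ⧸ m) ⊗[R] X) * Module.finrank (R ⧸ m) ((R ⧸ m) ⊗[R] Y) := by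
  letI := Ideal.Quotient.field m
  rw [(TensorProduct.AlgebraTensorModule.distribBaseChange R (R ⧸ m) X Y).finrank_eq,
    Module.finrank_tensorProduct (R := R ⧸ m) (S := R ⧸ m) (M := (R ⧸ m) ⊗[R] X)
      (M' := (R ⧸ m) ⊗[R] Y)]

theorem finrank_residue_end (P : Type w) [AddCommGroup P] [Module R P] [Module.Finite R P]
    [Module.Projective R P] :
    Module.finrank (R ⧸ m) ((R ⧸ m) ⊗[R] (Module.End R P)) =
      Module.finrank (R ⧸ m) ((R ⧸ m) ⊗[R] P) * Module.finrank (R ⧸ m) ((R ⧸ m) ⊗[R] P) := by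
  letI := Ideal.Quotient.field m
  rw [(Azu.endBCAlgEquiv R (R ⧸ m) P).toLinearEquiv.finrank_eq]
  exact Module.finrank_linearMap (R ⧸ m) (R ⧸ m) _ _

end Dim

section Brauer
variable {R : Type u} [CommRing R]

/-- S16609 (universe-general) -/
theorem nonempty_algEquiv_of_brauer (hR : LGRing.IsLGRing R)
    (A : Type v) [Ring A] [Algebra R A] [IsAzumaya R A]
    (B : Type v') [Ring B] [Algebra R B] [IsAzumaya R B]
    (hdeg : ∀ p : PrimeSpectrum R, Module.rankAtStalk A p = Module.rankAtStalk B p)
    (P : Type w) [AddCommGroup P] [Module R P] [Module.Finite R P] [Module.Projective R P]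
    [FaithfulSMul R P]
    (Q : Type w') [AddCommGroup Q] [Module R Q] [Module.Finite R Q] [Module.Projective R Q]
    [FaithfulSMul R Q]
    (e : A ⊗[R] Module.End R P ≃ₐ[R] B ⊗[R] Module.End R Q) : Nonempty (A ≃ₐ[R] B) := by
  obtain ⟨t⟩ := nonempty_linearEquiv_of_finrank hR P Q (fun m _ => by
    letI := Ideal.Quotient.field m
    have h1 := (LinearEquiv.baseChange R (R ⧸ m) _ _ e.toLinearEquiv).finrank_eq
    rw [finrank_residue_tensor, finrank_residue_tensor, finrank_residue_end, finrank_residue_end,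
      finrank_residue m A, finrank_residue m B, hdeg] at h1
    haveI := nontrivial_residue_tensor m B
    have hpos : 0 < Module.rankAtStalk B ⟨m, inferInstance⟩ := by
      rw [← finrank_residue m B]
      exact Module.finrank_pos
    have h2 := Nat.eq_of_mul_eq_mul_left hpos h1
    exact Nat.mul_self_inj.mp h2)
  haveI : IsAzumaya R (Module.End R P) := Azu.isAzumaya_end R P
  exact nonempty_algEquiv_of_tensor hR A B (Module.End R P)
    (e.trans (Algebra.TensorProduct.congr AlgEquiv.refl (LinearEquiv.conjAlgEquiv R t).symm))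

end Brauer

end Groth.Agent.H7.LG
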