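import Mathlib
import Groth.Agent.Lib.Helper7.LG.AzMod

set_option autoImplicit false
universe u v w

namespace Groth.Agent.H7.LG

open scoped TensorProduct

section Indec
variable {R : Type u} [CommRing R] {A : Type v} [Ring A] [Algebra R A] [IsAzumaya R A]

theorem nonempty_linearEquiv_of_rank_le_of_indecomposable (hR : LGRing.IsLGRing R)
    (P Q : Type w) [AddCommGroup P] [Module A P] [Module R P] [IsScalarTower R A P]
    [Module.Finite A P] [Module.Projective A P] [Nontrivial P]
    [AddCommGroup Q] [Module A Q] [Module R Q] [IsScalarTower R A Q]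
    [Module.Finite A Q] [Module.Projective A Q]
    (hQ : ∀ e : Module.End A Q, IsIdempotentElem e → e = 0 ∨ e = 1)
    (h : ∀ p : PrimeSpectrum R, Module.rankAtStalk P p ≤ Module.rankAtStalk Q p) :
    Nonempty (Q ≃ₗ[A] P) := by
  obtain ⟨f, hf⟩ := exists_surjective_of_rank_le (A := A) Q P hR h
  obtain ⟨s, hs⟩ := Module.projective_lifting_property f LinearMap.id hf
  have hfs : ∀ x, f (s x) = x := fun x => LinearMap.congr_fun hs x
  have hidem : IsIdempotentElem (s ∘ₗ f : Module.End A Q) := by
    show (s ∘ₗ f) * (s ∘ₗ f) = s ∘ₗ f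
    ext x
    simp only [Module.End.mul_apply, LinearMap.comp_apply, hfs]
  rcases hQ _ hidem with h0 | h1
  · exfalso
    obtain ⟨x, y, hxy⟩ := exists_pair_ne P
    have hz : ∀ z : P, z = 0 := by
      intro z
      obtain ⟨w, rfl⟩ := hf z
      have := LinearMap.congr_fun h0 w
      rw [LinearMap.comp_apply, LinearMap.zero_apply] at this
      calc f w = f (s (f w)) := (hfs (f w)).symm
        _ = f 0 := by rw [this]
        _ = 0 := map_zero f
    exact hxy ((hz x).trans (hz y).symm)
  · have hinj : Function.Injective f := by
      intro x y hxy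
      have hx := LinearMap.congr_fun h1 x
      have hy := LinearMap.congr_fun h1 y
      rw [LinearMap.comp_apply, Module.End.one_apply] at hx hy
      rw [← hx, ← hy, hxy]
    exact ⟨LinearEquiv.ofBijective f ⟨hinj, hf⟩⟩

/-- S16602 -/
theorem nonempty_linearEquiv_of_indecomposable (hR : LGRing.IsLGRing R)
    [ConnectedSpace (PrimeSpectrum R)]
    (P Q : Type w) [AddCommGroup P] [Module A P] [Module.Finite A P] [Module.Projective A P]
    [Nontrivial P]
    [AddCommGroup Q] [Module A Q] [Module.Finite A Q] [Module.Projective A Q] [Nontrivial Q]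
    (hP : ∀ e : Module.End A P, IsIdempotentElem e → e = 0 ∨ e = 1)
    (hQ : ∀ e : Module.End A Q, IsIdempotentElem e → e = 0 ∨ e = 1) : Nonempty (P ≃ₗ[A] Q) := by
  letI : Module R P := Module.compHom P (algebraMap R A)
  haveI : IsScalarTower R A P := IsScalarTower.of_algebraMap_smul (fun r x => rfl)
  letI : Module R Q := Module.compHom Q (algebraMap R A)
  haveI : IsScalarTower R A Q := IsScalarTower.of_algebraMap_smul (fun r x => rfl)
  haveI : Module.Finite R P := finite_of_tower (A := A) P
  haveI : Module.Finite R Q := finite_of_tower (A := A) Q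
  haveI : Module.Projective R P := projective_of_tower (A := A) P
  haveI : Module.Projective R Q := projective_of_tower (A := A) Q
  haveI : Module.FinitePresentation R P := Module.finitePresentation_of_projective R P
  haveI : Module.FinitePresentation R Q := Module.finitePresentation_of_projective R Q
  have hcP : ∀ p q : PrimeSpectrum R, Module.rankAtStalk P p = Module.rankAtStalk P q :=
    fun p q => (Module.isLocallyConstant_rankAtStalk (R := R) (M := P)).apply_eq_of_preconnectedSpace p q
  have hcQ : ∀ p q : PrimeSpectrum R, Module.rankAtStalk Q p = Module.rankAtStalk Q q :=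
    fun p q => (Module.isLocallyConstant_rankAtStalk (R := R) (M := Q)).apply_eq_of_preconnectedSpace p q
  obtain ⟨p₀⟩ : Nonempty (PrimeSpectrum R) := inferInstance
  rcases le_total (Module.rankAtStalk P p₀) (Module.rankAtStalk Q p₀) with hle | hle
  · obtain ⟨e⟩ := nonempty_linearEquiv_of_rank_le_of_indecomposable (A := A) hR P Q hQ (fun p => by
      rw [hcP p p₀, hcQ p p₀]; exact hle)
    exact ⟨e.symm⟩
  · exact nonempty_linearEquiv_of_rank_le_of_indecomposable (A := A) hR Q P hP (fun p => by
      rw [hcP p p₀, hcQ p p₀]; exact hle)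

end Indec

end Groth.Agent.H7.LG
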