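import Mathlib
import Groth.Agent.Lib.Helper7.LG.AzHom
import Groth.Agent.Lib.Helper7.CSA3

set_option autoImplicit false
universe u v w

namespace Groth.Agent.H7.LG

open scoped TensorProduct

section SplitSub
variable (k : Type u) [Field k] (A : Type v) [Ring A] [Algebra k A] [Algebra.IsCentral k A]
  [IsSimpleRing A] [FiniteDimensional k A] (L : Type w) [CommRing L] [Algebra k L]

/-- S3248 (universe-general) -/
theorem split_by_commutative_subalgebra (ι : L →ₐ[k] A) [Module L A]
    (hmod : ∀ (l : L) (a : A), l • a = a * ι l) [Module.Free L A] (r : ℕ) (hr : 0 < r)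
    (hA : Module.finrank k A = r ^ 2) (hrank : Module.finrank L A = r) :
    Nonempty ((L ⊗[k] A) ≃ₐ[L] Matrix (Fin r) (Fin r) L) := by
  classical
  haveI : Nontrivial L := by
    refine nontrivial_of_ne (1 : L) 0 (fun h => ?_)
    have := congrArg ι h
    rw [map_one, map_zero] at this
    exact one_ne_zero this
  haveI : IsScalarTower k L A := ⟨fun c l a => by
    rw [hmod, hmod, map_smul, mul_smul_comm]⟩
  haveI : SMulCommClass L k A := ⟨fun l c a => by
    rw [hmod, hmod, smul_mul_assoc]⟩
  haveI : Module.Finite L A := Module.finite_of_finrank_pos (by rw [hrank]; exact hr)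
  haveI : Nonempty (Fin r) := ⟨⟨0, hr⟩⟩
  let bas : Module.Basis (Fin r) L A := Module.finBasisOfFinrankEq L A hrank
  let leftReg : A →ₐ[k] Module.End L A :=
    AlgHom.ofLinearMap
      { toFun := fun a =>
          { toFun := fun v => a * v
            map_add' := fun v w => mul_add a v w
            map_smul' := fun l v => by
              show a * (l • v) = l • (a * v)
              rw [hmod, hmod, mul_assoc] }
        map_add' := fun a a' => by
          ext v; exact add_mul a a' v
        map_smul' := fun c a => by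
          ext v; exact smul_mul_assoc c a v }
      (by ext v; exact one_mul v)
      (fun a a' => by ext v; exact mul_assoc a a' v)
  let Φ : L ⊗[k] A →ₐ[L] Module.End L A :=
    Algebra.TensorProduct.lift (Algebra.ofId L (Module.End L A)) leftReg
      (fun l a => Algebra.commutes' l _)
  let Ψ : L ⊗[k] A →ₐ[L] Matrix (Fin r) (Fin r) L :=
    ((LinearMap.toMatrixAlgEquiv bas : Module.End L A ≃ₐ[L] _) : Module.End L A →ₐ[L] _).comp Φ
  haveI : IsAzumaya k A := Groth.Agent.H7.CSA.isAzumaya_of_csa k A
  haveI : IsAzumaya L (L ⊗[k] A) := Azu.isAzumaya_baseChange k L A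
  haveI : IsAzumaya L (Matrix (Fin r) (Fin r) L) := IsAzumaya.matrix L (Fin r)
  have hbij : Function.Bijective Ψ := by
    apply algHom_bijective_of_azumaya
    intro m hm
    letI := Ideal.Quotient.field m
    have h1 : Module.finrank (L ⧸ m) ((L ⧸ m) ⊗[L] (L ⊗[k] A)) = r ^ 2 := by
      rw [(TensorProduct.AlgebraTensorModule.cancelBaseChange k L (L ⧸ m) (L ⧸ m) A).finrank_eq,
        Module.finrank_baseChange, hA]
    have h2 : Module.finrank (L ⧸ m) ((L ⧸ m) ⊗[L] Matrix (Fin r) (Fin r) L) = r ^ 2 := by
      rw [Module.finrank_baseChange, Module.finrank_matrix]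
      simp [sq]
    rw [h1, h2]
  exact ⟨AlgEquiv.ofBijective Ψ hbij⟩

end SplitSub

end Groth.Agent.H7.LG
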