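import Mathlib
import Groth.Agent.Lib.Helper7.LG.Aff

set_option autoImplicit false
universe u v w

namespace Groth.Agent.H7.LG

open MvPolynomial

section Vect
variable {R : Type u} [CommRing R] {M : Type v} [AddCommGroup M] [Module R M] {a : ℕ}

/-- the linear map `d ↦ ∑ k, d (π e_k) • y_k` from the dual of `M` to an `R`-algebra `A` -/
noncomputable def coordForm {A : Type*} [CommRing A] [Algebra R A] (π : (Fin a → R) →ₗ[R] M)
    (y : Fin a → A) : Module.Dual R M →ₗ[R] A :=
  ∑ k, (Module.Dual.eval R M (π (Pi.single k 1))).smulRight (y k)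

theorem coordForm_apply {A : Type*} [CommRing A] [Algebra R A] (π : (Fin a → R) →ₗ[R] M)
    (y : Fin a → A) (d : Module.Dual R M) :
    coordForm π y d = ∑ k, d (π (Pi.single k 1)) • y k := by
  simp [coordForm, LinearMap.sum_apply]

theorem pi_decomp (π : (Fin a → R) →ₗ[R] M) (x : Fin a → R) :
    π x = ∑ k, x k • π (Pi.single k 1) := by
  classical
  have hsingle : ∀ k : Fin a, (fun j => if k = j then (1 : R) else 0) = Pi.single k 1 := by
    intro k
    ext l
    simp [Pi.single_apply, eq_comm]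
  conv_lhs => rw [pi_eq_sum_univ x]
  simp only [map_sum, map_smul, hsingle]

/-- for `y = x` in `R`, `coordForm` is evaluation at `π x` -/
theorem coordForm_self (π : (Fin a → R) →ₗ[R] M) (x : Fin a → R) :
    coordForm π x = Module.Dual.eval R M (π x) := by
  ext d
  rw [coordForm_apply, Module.Dual.eval_apply, pi_decomp π x, map_sum]
  refine Finset.sum_congr rfl fun k _ => ?_
  rw [map_smul, smul_eq_mul, smul_eq_mul, mul_comm]

/-- the universal point of the vector bundle in the coordinates given by `π` -/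
noncomputable def univPoint (π : (Fin a → R) →ₗ[R] M) :
    SymmetricAlgebra R (Module.Dual R M) →ₐ[R] MvPolynomial (Fin a) R :=
  SymmetricAlgebra.lift (coordForm π X)

theorem aeval_comp_univPoint {A : Type*} [CommRing A] [Algebra R A] (π : (Fin a → R) →ₗ[R] M)
    (y : Fin a → A) :
    (aeval y).comp (univPoint π) = SymmetricAlgebra.lift (coordForm π y) := by
  apply SymmetricAlgebra.algHom_ext
  ext d
  change (aeval y) (SymmetricAlgebra.lift (coordForm π X) (SymmetricAlgebra.ι R _ d)) =
    SymmetricAlgebra.lift (coordForm π y) (SymmetricAlgebra.ι R _ d)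
  rw [SymmetricAlgebra.lift_ι_apply, SymmetricAlgebra.lift_ι_apply, coordForm_apply,
    coordForm_apply, map_sum]
  refine Finset.sum_congr rfl fun k _ => ?_
  rw [map_smul, aeval_X]

theorem eval_univPoint (π : (Fin a → R) →ₗ[R] M) (x : Fin a → R)
    (g : SymmetricAlgebra R (Module.Dual R M)) :
    eval x (univPoint π g) = SymmetricAlgebra.lift (Module.Dual.eval R M (π x)) g := by
  have := AlgHom.congr_fun (aeval_comp_univPoint π x) g
  rw [coordForm_self] at this
  rw [← this]
  rfl

/-- Core: if for each maximal ideal some point `π x` of `M` has one of the `g j` not vanishing mod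
`m`, then some point of `M` lies in the open set defined by the `g j`. -/
theorem exists_point_vect_core (hR : LGRing.IsLGRing R) (π : (Fin a → R) →ₗ[R] M) {r : ℕ}
    (g : Fin r → SymmetricAlgebra R (Module.Dual R M))
    (h : ∀ (m : Ideal R) [m.IsMaximal], ∃ (x : Fin a → R) (j : Fin r),
      SymmetricAlgebra.lift (Module.Dual.eval R M (π x)) (g j) ∉ m) :
    ∃ φ : Module.Dual R M →ₗ[R] R,
      Set.range (PrimeSpectrum.comap (SymmetricAlgebra.lift φ).toRingHom) ⊆
        (PrimeSpectrum.zeroLocus (Set.range g))ᶜ := by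
  obtain ⟨x, hx⟩ := exists_point_span_eq_top hR (fun j => univPoint π (g j)) (fun m _ => by
    obtain ⟨x, j, hxj⟩ := h m
    exact ⟨x, j, by rw [eval_univPoint]; exact hxj⟩)
  refine ⟨Module.Dual.eval R M (π x), ?_⟩
  rintro _ ⟨p, rfl⟩
  rw [comap_mem_compl_zeroLocus_iff]
  by_contra hcon
  have hall : ∀ j, eval x (univPoint π (g j)) ∈ p.asIdeal := fun j => by
    by_contra hj
    apply hcon
    refine ⟨j, ?_⟩
    rw [eval_univPoint] at hj
    exact hj
  have : Ideal.span (Set.range fun j => eval x (univPoint π (g j))) ≤ p.asIdeal := by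
    rw [Ideal.span_le]
    rintro _ ⟨j, rfl⟩
    exact hall j
  rw [hx] at this
  exact p.isPrime.ne_top (top_le_iff.mp this)

/-- the coordinate forms `δ_k = (k-th coordinate) ∘ i` -/
noncomputable def coordDual (i : M →ₗ[R] (Fin a → R)) (k : Fin a) : Module.Dual R M :=
  LinearMap.proj k ∘ₗ i

theorem dual_decomp (π : (Fin a → R) →ₗ[R] M) (i : M →ₗ[R] (Fin a → R))
    (hi : π ∘ₗ i = LinearMap.id) (d : Module.Dual R M) :
    d = ∑ k, d (π (Pi.single k 1)) • coordDual i k := by
  ext m
  have h1 : m = π (i m) := (LinearMap.congr_fun hi m).symm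
  conv_lhs => rw [h1, pi_decomp π (i m), map_sum]
  rw [LinearMap.sum_apply]
  refine Finset.sum_congr rfl fun k _ => ?_
  rw [map_smul, LinearMap.smul_apply, smul_eq_mul, smul_eq_mul, mul_comm]
  rfl

/-- composing a point with `R → A` -/
theorem lift_comp_algebraMap {A : Type*} [CommRing A] [Algebra R A] (φ : Module.Dual R M →ₗ[R] R) :
    SymmetricAlgebra.lift ((Algebra.linearMap R A) ∘ₗ φ) =
      (Algebra.ofId R A).comp (SymmetricAlgebra.lift φ) := by
  apply SymmetricAlgebra.algHom_ext
  ext d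
  change SymmetricAlgebra.lift ((Algebra.linearMap R A) ∘ₗ φ) (SymmetricAlgebra.ι R _ d) =
    (Algebra.ofId R A) (SymmetricAlgebra.lift φ (SymmetricAlgebra.ι R _ d))
  rw [SymmetricAlgebra.lift_ι_apply, SymmetricAlgebra.lift_ι_apply]
  rfl

/-- every `R ⧸ m`-valued point is the reduction of a point `π c` of `M` -/
theorem exists_lift_point (π : (Fin a → R) →ₗ[R] M) (i : M →ₗ[R] (Fin a → R))
    (hi : π ∘ₗ i = LinearMap.id) (m : Ideal R) (φb : Module.Dual R M →ₗ[R] (R ⧸ m)) :
    ∃ c : Fin a → R, φb = (Algebra.linearMap R (R ⧸ m)) ∘ₗ (Module.Dual.eval R M (π c)) := by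
  choose c hc using fun k => Ideal.Quotient.mk_surjective (φb (coordDual i k))
  refine ⟨c, ?_⟩
  ext d
  conv_lhs => rw [dual_decomp π i hi d, map_sum]
  rw [LinearMap.comp_apply, Module.Dual.eval_apply, pi_decomp π c, map_sum, map_sum]
  refine Finset.sum_congr rfl fun k _ => ?_
  rw [map_smul, map_smul, smul_eq_mul, Algebra.linearMap_apply, map_mul, ← hc k,
    Algebra.smul_def, mul_comm]
  rfl

/-- S16600 in `PrimeSpectrum` form -/
theorem point_vectorBundle_iff (hR : LGRing.IsLGRing R) [Module.Finite R M] [Module.Projective R M]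
    (U : Set (PrimeSpectrum (SymmetricAlgebra R (Module.Dual R M)))) (hU : IsCompact U)
    (hUo : IsOpen U) :
    (∃ φ : Module.Dual R M →ₗ[R] R,
      Set.range (PrimeSpectrum.comap (SymmetricAlgebra.lift φ).toRingHom) ⊆ U) ↔
    ∀ (m : Ideal R) [m.IsMaximal], ∃ φ : Module.Dual R M →ₗ[R] (R ⧸ m),
      Set.range (PrimeSpectrum.comap (SymmetricAlgebra.lift φ).toRingHom) ⊆ U := by
  constructor
  · rintro ⟨φ, hφ⟩ m _
    refine ⟨(Algebra.linearMap R (R ⧸ m)) ∘ₗ φ, ?_⟩
    rintro _ ⟨q, rfl⟩
    rw [lift_comp_algebraMap]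
    exact hφ ⟨PrimeSpectrum.comap (algebraMap R (R ⧸ m)) q, rfl⟩
  · intro h
    obtain ⟨a, π, hπ⟩ := Module.Finite.exists_fin' R M
    obtain ⟨i, hi⟩ := Module.projective_lifting_property π LinearMap.id hπ
    obtain ⟨I, hI, hIU⟩ := PrimeSpectrum.isCompact_isOpen_iff_ideal.mp ⟨hU, hUo⟩
    obtain ⟨r, g, hg⟩ := Submodule.fg_iff_exists_fin_generating_family.mp hI
    have hUg : U = (PrimeSpectrum.zeroLocus (Set.range g))ᶜ := by
      rw [← hIU, ← hg]
      congr 1
      exact PrimeSpectrum.zeroLocus_span (Set.range g)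
    rw [hUg]
    apply exists_point_vect_core hR π g
    intro m _
    obtain ⟨φb, hφb⟩ := h m
    letI := Ideal.Quotient.field m
    have hmem := hφb ⟨⟨⊥, Ideal.isPrime_bot⟩, rfl⟩
    rw [hUg, comap_mem_compl_zeroLocus_iff] at hmem
    obtain ⟨j, hj⟩ := hmem
    obtain ⟨c, hc⟩ := exists_lift_point π i hi m φb
    refine ⟨c, j, ?_⟩
    rw [hc, lift_comp_algebraMap] at hj
    intro hcon
    apply hj
    change (Algebra.ofId R (R ⧸ m)) (SymmetricAlgebra.lift (Module.Dual.eval R M (π c)) (g j)) ∈ _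
    change Ideal.Quotient.mk m (SymmetricAlgebra.lift (Module.Dual.eval R M (π c)) (g j)) ∈ _
    rw [Ideal.Quotient.eq_zero_iff_mem.mpr hcon]
    exact Ideal.zero_mem _

end Vect

end Groth.Agent.H7.LG
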