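import Mathlib
import Groth.Agent.Lib.Helper7.LG.Vect

set_option autoImplicit false
universe u v w

namespace Groth.Agent.H7.LG

open MvPolynomial

section Dense
variable {R : Type u} [CommRing R] {M : Type v} [AddCommGroup M] [Module R M] {a : ℕ}

/-- retraction of the universal point -/
noncomputable def univRetr (i : M →ₗ[R] (Fin a → R)) :
    MvPolynomial (Fin a) R →ₐ[R] SymmetricAlgebra R (Module.Dual R M) :=
  aeval (fun k => SymmetricAlgebra.ι R (Module.Dual R M) (coordDual i k))

theorem univRetr_comp_univPoint (π : (Fin a → R) →ₗ[R] M) (i : M →ₗ[R] (Fin a → R))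
    (hi : π ∘ₗ i = LinearMap.id) :
    (univRetr i).comp (univPoint π) = AlgHom.id R _ := by
  apply SymmetricAlgebra.algHom_ext
  ext d
  change univRetr i (SymmetricAlgebra.lift (coordForm π X) (SymmetricAlgebra.ι R _ d)) =
    SymmetricAlgebra.ι R _ d
  rw [SymmetricAlgebra.lift_ι_apply, coordForm_apply, map_sum]
  conv_rhs => rw [dual_decomp π i hi d, map_sum]
  refine Finset.sum_congr rfl fun k _ => ?_
  rw [map_smul, map_smul, univRetr, aeval_X]

theorem univPoint_not_mem (π : (Fin a → R) →ₗ[R] M) (i : M →ₗ[R] (Fin a → R))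
    (hi : π ∘ₗ i = LinearMap.id) (m : Ideal R)
    (g : SymmetricAlgebra R (Module.Dual R M))
    (hg : g ∉ Ideal.map (algebraMap R (SymmetricAlgebra R (Module.Dual R M))) m) :
    univPoint π g ∉ Ideal.map (C : R →+* MvPolynomial (Fin a) R) m := by
  intro hcon
  apply hg
  have h1 : g = univRetr i (univPoint π g) := by
    have := AlgHom.congr_fun (univRetr_comp_univPoint π i hi) g
    exact this.symm
  rw [h1]
  have h2 : Ideal.map (C : R →+* MvPolynomial (Fin a) R) m ≤
      Ideal.comap (univRetr i).toRingHom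
        (Ideal.map (algebraMap R (SymmetricAlgebra R (Module.Dual R M))) m) := by
    rw [Ideal.map_le_iff_le_comap]
    intro r hr
    rw [Ideal.mem_comap, Ideal.mem_comap]
    change univRetr i (C r) ∈ _
    rw [← MvPolynomial.algebraMap_eq, AlgHom.commutes]
    exact Ideal.mem_map_of_mem _ hr
  exact h2 hcon

/-- a polynomial not in `m R[X]` takes a value outside `m`, if `R ⧸ m` is infinite -/
theorem exists_eval_not_mem (m : Ideal R) [m.IsMaximal] [Infinite (R ⧸ m)]
    (G : MvPolynomial (Fin a) R) (hG : G ∉ Ideal.map (C : R →+* MvPolynomial (Fin a) R) m) :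
    ∃ x : Fin a → R, eval x G ∉ m := by
  letI := Ideal.Quotient.field m
  have hne : MvPolynomial.map (Ideal.Quotient.mk m) G ≠ 0 := by
    intro h0
    apply hG
    rw [MvPolynomial.mem_map_C_iff]
    intro n
    have := congrArg (coeff n) h0
    rw [coeff_map, coeff_zero] at this
    exact Ideal.Quotient.eq_zero_iff_mem.mp this
  obtain ⟨xb, hxb⟩ : ∃ xb : Fin a → R ⧸ m, eval xb (MvPolynomial.map (Ideal.Quotient.mk m) G) ≠ 0 := by
    by_contra hcon
    apply hne
    apply MvPolynomial.funext
    intro xb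
    rw [map_zero]
    by_contra h
    exact hcon ⟨xb, h⟩
  choose x hx using fun k => Ideal.Quotient.mk_surjective (xb k)
  refine ⟨x, ?_⟩
  intro hmem
  apply hxb
  rw [eval_map]
  have h1 := MvPolynomial.eval₂_comp_left (Ideal.Quotient.mk m) (RingHom.id R) x G
  rw [RingHom.comp_id] at h1
  have h2 : (⇑(Ideal.Quotient.mk m) ∘ x) = xb := funext hx
  rw [h2] at h1
  rw [← h1]
  exact Ideal.Quotient.eq_zero_iff_mem.mpr hmem

/-- S16601 in `PrimeSpectrum` form -/
theorem exists_point_of_dense (hR : LGRing.IsLGRing R)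
    (hinf : ∀ (m : Ideal R) [m.IsMaximal], Infinite (R ⧸ m))
    [Module.Finite R M] [Module.Projective R M]
    (U : Set (PrimeSpectrum (SymmetricAlgebra R (Module.Dual R M)))) (hU : IsCompact U)
    (hUo : IsOpen U)
    (hdense : ∀ (m : Ideal R) [m.IsMaximal],
      Dense (PrimeSpectrum.comap (Ideal.Quotient.mk
        (Ideal.map (algebraMap R (SymmetricAlgebra R (Module.Dual R M))) m)) ⁻¹' U)) :
    ∃ φ : Module.Dual R M →ₗ[R] R,
      Set.range (PrimeSpectrum.comap (SymmetricAlgebra.lift φ).toRingHom) ⊆ U := by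
  obtain ⟨a, π, hπ⟩ := Module.Finite.exists_fin' R M
  obtain ⟨i, hi⟩ := Module.projective_lifting_property π LinearMap.id hπ
  obtain ⟨I, hI, hIU⟩ := PrimeSpectrum.isCompact_isOpen_iff_ideal.mp ⟨hU, hUo⟩
  obtain ⟨r, g, hg⟩ := Submodule.fg_iff_exists_fin_generating_family.mp hI
  have hUg : U = (PrimeSpectrum.zeroLocus (Set.range g))ᶜ := by
    rw [← hIU, ← hg]
    congr 1
    exact PrimeSpectrum.zeroLocus_span (Set.range g)
  rw [hUg]
  apply exists_point_vect_core hR π g
  intro m _
  haveI := hinf m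
  -- the closed fibre is nonempty
  have hne : Ideal.map (algebraMap R (SymmetricAlgebra R (Module.Dual R M))) m ≠ ⊤ := by
    intro htop
    have hle : Ideal.map (algebraMap R (SymmetricAlgebra R (Module.Dual R M))) m ≤
        RingHom.ker ((Ideal.Quotient.mk m).comp
          (SymmetricAlgebra.algebraMapInv (R := R) (M := Module.Dual R M)).toRingHom) := by
      rw [Ideal.map_le_iff_le_comap]
      intro r hr
      rw [Ideal.mem_comap, RingHom.mem_ker, RingHom.comp_apply]
      change Ideal.Quotient.mk m (SymmetricAlgebra.algebraMapInv (algebraMap R _ r)) = 0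
      rw [AlgHom.commutes]
      exact Ideal.Quotient.eq_zero_iff_mem.mpr hr
    letI := Ideal.Quotient.field m
    have h1 : (1 : SymmetricAlgebra R (Module.Dual R M)) ∈ RingHom.ker ((Ideal.Quotient.mk m).comp
        (SymmetricAlgebra.algebraMapInv (R := R) (M := Module.Dual R M)).toRingHom) :=
      hle (htop ▸ Submodule.mem_top)
    rw [RingHom.mem_ker, map_one] at h1
    exact one_ne_zero h1
  haveI : Nontrivial (SymmetricAlgebra R (Module.Dual R M) ⧸
      Ideal.map (algebraMap R (SymmetricAlgebra R (Module.Dual R M))) m) :=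
    Ideal.Quotient.nontrivial_iff.mpr hne
  obtain ⟨q, hq⟩ := (hdense m).nonempty
  rw [Set.mem_preimage, hUg, comap_mem_compl_zeroLocus_iff] at hq
  obtain ⟨j, hj⟩ := hq
  have hgj : g j ∉ Ideal.map (algebraMap R (SymmetricAlgebra R (Module.Dual R M))) m := by
    intro hmem
    apply hj
    rw [Ideal.Quotient.eq_zero_iff_mem.mpr hmem]
    exact Ideal.zero_mem _
  obtain ⟨x, hx⟩ := exists_eval_not_mem m (univPoint π (g j))
    (univPoint_not_mem π i hi m (g j) hgj)
  refine ⟨x, j, ?_⟩
  rw [← eval_univPoint]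
  exact hx

end Dense

end Groth.Agent.H7.LG
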