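import Mathlib
import Groth.Agent.Lib.Helper7.LG.Basic

set_option autoImplicit false
universe u v w

namespace Groth.Agent.H7.LG

open MvPolynomial
open scoped TensorProduct

section Unimod
variable {R : Type u} [CommRing R]

theorem smul_top_ne_top (m : Ideal R) [m.IsMaximal] (N : Type v) [AddCommGroup N]
    [Module R N] [Module.Finite R N] [FaithfulSMul R N] : m • (⊤ : Submodule R N) ≠ ⊤ := by
  intro htop
  obtain ⟨r, hr1, hr2⟩ := Submodule.exists_sub_one_mem_and_smul_eq_zero_of_fg_of_le_smul m
    (⊤ : Submodule R N) Module.Finite.fg_top (le_of_eq htop.symm)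
  have hr0 : r = 0 := by
    apply FaithfulSMul.eq_of_smul_eq_smul (α := N)
    intro n
    rw [hr2 n Submodule.mem_top, zero_smul]
  rw [hr0, zero_sub] at hr1
  have : (1 : R) ∈ m := by simpa using m.neg_mem hr1
  exact (Ideal.IsMaximal.ne_top ‹_›) ((Ideal.eq_top_iff_one m).mpr this)

/-- S16598 -/
theorem exists_unimodular (hR : LGRing.IsLGRing R)
    (M : Type v) [AddCommGroup M] [Module R M] [Module.Finite R M] [Module.Projective R M]
    [FaithfulSMul R M] : ∃ (m : M) (f : Module.Dual R M), f m = 1 := by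
  classical
  obtain ⟨a, π, hπ⟩ := Module.Finite.exists_fin' R M
  obtain ⟨i, hi⟩ := Module.projective_lifting_property π LinearMap.id hπ
  have hπi : ∀ n, π (i n) = n := fun n => LinearMap.congr_fun hi n
  let fy : (Fin a → R) → Module.Dual R M := fun y => ∑ j, y j • (LinearMap.proj j ∘ₗ i)
  have hfy : ∀ y n, fy y n = ∑ j, y j * (i n) j := by
    intro y n
    simp [fy, LinearMap.sum_apply]
  let F : MvPolynomial (Fin a ⊕ Fin a) R :=
    ∑ j, ∑ k, C ((i (π (Pi.single k 1))) j) * X (Sum.inr j) * X (Sum.inl k)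
  have hsingle : ∀ k : Fin a, (fun j => if k = j then (1 : R) else 0) = Pi.single k 1 := by
    intro k
    ext l
    simp [Pi.single_apply, eq_comm]
  have hdecomp : ∀ x : Fin a → R, π x = ∑ k, x k • π (Pi.single k 1) := by
    intro x
    conv_lhs => rw [pi_eq_sum_univ x]
    simp only [map_sum, map_smul, hsingle]
  have hcoord : ∀ (x : Fin a → R) (j : Fin a),
      (i (π x)) j = ∑ k, x k * (i (π (Pi.single k 1))) j := by
    intro x j
    rw [hdecomp x]
    simp only [map_sum, map_smul, Finset.sum_apply, Pi.smul_apply, smul_eq_mul]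
  have hkey : ∀ s : Fin a ⊕ Fin a → R,
      eval s F = fy (fun j => s (Sum.inr j)) (π (fun k => s (Sum.inl k))) := by
    intro s
    rw [hfy]
    simp only [F, map_sum, map_mul, eval_C, eval_X]
    refine Finset.sum_congr rfl fun j _ => ?_
    rw [hcoord, Finset.mul_sum]
    refine Finset.sum_congr rfl fun k _ => ?_
    ring
  obtain ⟨s, hs⟩ := exists_isUnit_eval hR F (fun m _ => by
    have hne := smul_top_ne_top m M
    obtain ⟨n, hn⟩ : ∃ n : M, n ∉ m • (⊤ : Submodule R M) := by
      by_contra hcon
      apply hne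
      rw [eq_top_iff]
      intro n _
      by_contra hn
      exact hcon ⟨n, hn⟩
    obtain ⟨j, hj⟩ : ∃ j, (i n) j ∉ m := by
      by_contra hcon
      apply hn
      have hall : ∀ j, (i n) j ∈ m := fun j => by
        by_contra hj
        exact hcon ⟨j, hj⟩
      rw [← hπi n, hdecomp (i n)]
      refine Submodule.sum_mem _ fun j _ => ?_
      exact Submodule.smul_mem_smul (hall j) Submodule.mem_top
    refine ⟨Sum.elim (i n) (Pi.single j 1), ?_⟩
    rw [hkey, hfy]
    simp only [Sum.elim_inr, Sum.elim_inl]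
    rw [show (fun k => i n k) = i n from rfl, hπi]
    rw [Finset.sum_eq_single j]
    · simpa using hj
    · intro l _ hl
      simp [Pi.single_apply, hl]
    · intro h
      exact absurd (Finset.mem_univ j) h)
  rw [hkey] at hs
  obtain ⟨u, hu⟩ := hs
  refine ⟨π (fun k => s (Sum.inl k)), (↑u⁻¹ : R) • fy (fun j => s (Sum.inr j)), ?_⟩
  rw [LinearMap.smul_apply, ← hu, smul_eq_mul, Units.inv_mul]

end Unimod

end Groth.Agent.H7.LG
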